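import Cfsg.Agent.Lib.Tur.Heis

/-!
# Fixed points of a cyclic operator group on a module of a group of symplectic type

If `A` has prime order `r` and `D` has order `q ^ (e + 1)`, both act without fixed points on `F / Z`, and `D` fixes
the fixed points of `A`, then `D` is an involution and the degree is `2 r - 1`.
-/

set_option autoImplicit false

namespace Cfsg.Lib.Tur

open Module LinearMap Finset Cfsg.Lib.HH.ModB

theorem pow_gcd_mem {G : Type*} [Group G] {S : Subgroup G} {x : G} {a b : ℕ} (ha : x ^ a ∈ S) (hb : x ^ b ∈ S) :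
    x ^ a.gcd b ∈ S := by
  rw [← zpow_natCast, Nat.gcd_eq_gcd_ab, zpow_add, zpow_mul, zpow_mul, zpow_natCast, zpow_natCast]
  exact mul_mem (zpow_mem ha _) (zpow_mem hb _)

theorem mem_of_pow_mem {G : Type*} [Group G] {S : Subgroup G} {x : G} {a b : ℕ} (h : a.Coprime b) (ha : x ^ a ∈ S)
    (hb : x ^ b = 1) : x ∈ S := by
  have := pow_gcd_mem ha (hb ▸ one_mem S : x ^ b ∈ S)
  rwa [h.gcd_eq_one, pow_one] at this

variable {k V : Type*} [Field k] [AddCommGroup V] [Module k V]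
variable {F : Type*} [Group F] {ρ : F →* End k V} {Z : Subgroup F}

theorem pow_fix {ξ : MulAut F} {z : F} (h : ξ z = z) (j : ℕ) : (ξ ^ j) z = z :=
  pow_mem (show ξ ∈ MulAction.stabilizer (MulAut F) z from h) j

theorem fix_of_mem {ξ : MulAut F} {m : ℕ} (hm : ξ ^ m = 1) (hc : m.Coprime (Nat.card F)) (hz : ∀ z ∈ Z, ξ z = z)
    {g : F} (hg : g⁻¹ * ξ g ∈ Z) : ξ g = g := by
  have h1 : ∀ j : ℕ, (ξ ^ j) g = g * (g⁻¹ * ξ g) ^ j := fun j => by
    induction j with
    | zero => simp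
    | succ j ih => rw [pow_succ', MulAut.mul_apply, ih, map_mul, hz _ (pow_mem hg j), pow_succ', ← mul_assoc,
        mul_inv_cancel_left]
  have h2 := h1 m
  rw [hm, MulAut.one_apply, left_eq_mul] at h2
  have h3 : g⁻¹ * ξ g ∈ (⊥ : Subgroup F) := mem_of_pow_mem hc h2 pow_card_eq_one'
  exact (inv_mul_eq_one.1 h3).symm

theorem semi_one {α : MulAut F} {r : ℕ} (hr : r.Prime) (hα : α ^ r = 1) (hc : r.Coprime (Nat.card F))
    (hz : ∀ z ∈ Z, α z = z) (hf : ∀ g, α g = g → g ∈ Z) (j : ℕ) (h0 : 0 < j) (hj : j < r) (g : F)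
    (hg : g⁻¹ * (α ^ j) g ∈ Z) : g ∈ Z :=
  hf g (mem_of_pow_mem (S := MulAction.stabilizer (MulAut F) g)
    (Nat.coprime_of_lt_prime h0.ne' hj hr).symm (fix_of_mem (m := r) (by rw [← pow_mul, mul_comm, pow_mul, hα, one_pow]) hc
      (fun z hz' => pow_fix (hz z hz') j) hg) hα)

theorem semi_two {α δ : MulAut F} {r q e : ℕ} (hr : r.Prime) (hq : q.Prime) (hqr : q ≠ r) (hα : α ^ r = 1)
    (hδ : δ ^ q ^ (e + 1) = 1) (hαδ : Commute α δ) (hc : (r * q).Coprime (Nat.card F))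
    (hz : ∀ z ∈ Z, α z = z) (hz' : ∀ z ∈ Z, δ z = z) (hf : ∀ g, α g = g → g ∈ Z)
    (hf' : ∀ g, (δ ^ q ^ e) g = g → g ∈ Z) (j : ℕ) (h0 : 0 < j) (hj : j < r * q ^ (e + 1)) (g : F)
    (hg : g⁻¹ * ((α * δ) ^ j) g ∈ Z) : g ∈ Z := by
  have hrq : r.Coprime (q ^ (e + 1)) := ((Nat.coprime_primes hr hq).2 hqr.symm).pow_right _
  have h1 : (α * δ) ^ j ∈ MulAction.stabilizer (MulAut F) g := fix_of_mem (m := r * q ^ (e + 1))
    (by rw [← pow_mul, mul_comm j, pow_mul, hαδ.mul_pow, pow_mul, hα, one_pow, one_mul, mul_comm r, pow_mul, hδ,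
      one_pow, one_pow])
    (Nat.Coprime.mul_left hc.coprime_mul_right (hc.coprime_mul_left.pow_left _))
    (fun z h => pow_fix (by rw [MulAut.mul_apply, hz' z h, hz z h]) j) hg
  rw [hαδ.mul_pow] at h1
  by_cases hd : r ∣ j
  · obtain ⟨l, rfl⟩ := hd
    rw [pow_mul α, hα, one_pow, one_mul] at h1
    have h2 := pow_gcd_mem h1 (hδ ▸ one_mem _ : δ ^ q ^ (e + 1) ∈ _)
    obtain ⟨i, hi, h3⟩ := (Nat.dvd_prime_pow hq).1 (Nat.gcd_dvd_right (r * l) (q ^ (e + 1)))
    have h4 : i ≠ e + 1 := fun e' => by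
      rw [e'] at h3
      have := Nat.le_of_dvd (Nat.pos_of_mul_pos_left h0) (hrq.symm.dvd_of_dvd_mul_left (h3 ▸ Nat.gcd_dvd_left _ _))
      have := Nat.lt_of_mul_lt_mul_left hj
      omega
    obtain ⟨l', rfl⟩ := Nat.exists_eq_add_of_le (show i ≤ e by omega)
    refine hf' g ?_
    rw [pow_add, pow_mul, ← h3]
    exact pow_mem h2 _
  · have h2 := pow_mem h1 (q ^ (e + 1))
    rw [(hαδ.pow_pow j j).mul_pow, ← pow_mul δ, mul_comm j, pow_mul δ, hδ, one_pow, mul_one, ← pow_mul] at h2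
    exact hf g (mem_of_pow_mem (Nat.Coprime.mul_left ((hr.coprime_iff_not_dvd.2 hd).symm) hrq.symm) h2 hα)

theorem isUnit_of_pow {R : Type*} [Monoid R] {x : R} {n : ℕ} (hn : n ≠ 0) (h : x ^ n = 1) : IsUnit x :=
  IsUnit.of_pow_eq_one h hn

theorem exists_prim [IsAlgClosed k] {N : ℕ} (hN : (N : k) ≠ 0) : ∃ ζ : k, IsPrimitiveRoot ζ N :=
  haveI : NeZero (N : k) := ⟨hN⟩
  haveI : NeZero N := ⟨fun e => hN (by simp [e])⟩
  HasEnoughRootsOfUnity.exists_primitiveRoot k N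

namespace Heis

variable [FiniteDimensional k V] [Finite F] [Nontrivial V] (h : Heis ρ Z) (hS : Schur ρ)
include h hS

theorem slots {Y : End k V} {N : ℕ} (hN : (N : k) ≠ 0) {ζ : k} (hζ : IsPrimitiveRoot ζ N) (hY : Y ^ N = 1)
    {ξ : MulAut F} (hc : ∀ g, Y * ρ g = ρ (ξ g) * Y) (hz : ∀ z ∈ Z, ξ z = z)
    (hf : ∀ j, 0 < j → j < N → ∀ g, g⁻¹ * (ξ ^ j) g ∈ Z → g ∈ Z) :
    Fintype.card (Fin N) * ∑ i : Fin N, finrank k (esp Y ζ i) ^ 2 + 1 ≤ finrank k V ^ 2 + Fintype.card (Fin N) := by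
  rw [Fintype.card_fin]
  exact le_trans (Nat.add_le_add_right (Nat.mul_le_mul_left _ (sum_sq_le hN hζ hY)) 1)
    (h.cmt_bound hS (isUnit_of_pow (fun e => hN (by simp [e])) hY) hc hz hf)

/-- In characteristic `q`: an endomorphism commuting with `D` is scalar between vectors fixed by `D`. -/
theorem sandwich {q e : ℕ} [hq : Fact q.Prime] [CharP k q] {D e₀ : End k V} (hD : IsUnit D) {δ : MulAut F}
    (hc : ∀ g, D * ρ g = ρ (δ g) * D) (hδ : δ ^ q ^ (e + 1) = 1) (hz : ∀ z ∈ Z, δ z = z)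
    (hf : ∀ g, (δ ^ q ^ e) g = g → g ∈ Z) (h1 : D * e₀ = e₀) (h2 : e₀ * D = e₀) {x : End k V} (hx : D * x = x * D) :
    (finrank k V : k) • (e₀ * x * e₀) = trace k V x • (e₀ * e₀) := by
  classical
  have := Fintype.ofFinite F
  obtain ⟨u, rfl⟩ := hD
  have h3 : ∀ g, trace k V (x * ρ (δ g)⁻¹) • (e₀ * ρ (δ g) * e₀) = trace k V (x * ρ g⁻¹) • (e₀ * ρ g * e₀) := by
    intro g
    rw [← map_inv, ← Units.mul_inv_cancel_right (ρ (δ g⁻¹)) u, ← hc, ← mul_assoc, trace_mul_comm _ (x * _),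
      ← mul_assoc x, ← hx, mul_assoc _ x, Units.inv_mul_cancel_left]
    congr 1
    calc e₀ * ρ (δ g) * e₀ = e₀ * (ρ (δ g) * u) * e₀ := by
          rw [mul_assoc e₀ (_ * _), mul_assoc (ρ (δ g)) (u : End k V), h1, mul_assoc]
      _ = _ := by rw [← hc, ← mul_assoc, h2]
  have h6 : ∀ (i : ℕ) g, (MulAut.toPerm F δ ^ i) g = (δ ^ i) g := fun i g => by rw [← map_pow]; rfl
  have h5 := sum_orbit (α := MulAut.toPerm F δ) (n := e) (p := q) (by rw [← map_pow, hδ, map_one])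
    (fun g => trace k V (x * ρ g⁻¹) • (e₀ * ρ g * e₀)) fun g _ => by
      rw [sum_congr rfl (g := fun _ => trace k V (x * ρ g⁻¹) • (e₀ * ρ g * e₀)) fun i _ => ?_, sum_const, card_range,
        ← Nat.cast_smul_eq_nsmul k, Nat.cast_pow, CharP.cast_eq_zero, zero_pow e.succ_ne_zero, zero_smul]
      rw [h6]
      induction i with
      | zero => rfl
      | succ i ih => rw [pow_succ', MulAut.mul_apply, h3, ih (mem_range.2 ((Nat.lt_succ_self i).trans (mem_range.1 ‹_›)))]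
  have h4 := congrArg (fun y => e₀ * y * e₀) (fourier ρ hS x)
  simp only [mul_smul_comm, smul_mul_assoc, mul_sum, sum_mul] at h4
  simp only [h6] at h5
  rw [← sum_filter_add_sum_filter_not _ fun g => (δ ^ q ^ e) g = g, h5, add_zero,
    filter_congr (q := (· ∈ Z)) fun g _ => ⟨hf g, fun hg => pow_fix (hz g hg) _⟩,
    sum_congr (s₁ := univ.filter (· ∈ Z)) rfl (g := fun _ => trace k V x • (e₀ * e₀)) fun g hg => ?_, sum_const,
    ← Fintype.card_subtype, ← Nat.card_eq_fintype_card, ← Nat.card_eq_fintype_card, ← Z.card_mul_index,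
    ← h.sq_eq hS, ← Nat.cast_smul_eq_nsmul k, smul_smul] at h4
  · have h7 : (finrank k V : k) * Nat.card Z ≠ 0 := mul_ne_zero (h.finrank_ne hS) fun e' => h.card (by
      rw [← Z.card_mul_index, Nat.cast_mul, e', zero_mul])
    refine smul_right_injective _ h7 ?_
    simp only
    rw [h4, smul_smul]
    congr 1
    push_cast
    ring
  · obtain ⟨c, hc⟩ := h.scal _ (mem_filter.1 hg).2
    obtain ⟨c', hc'⟩ := h.scal _ (inv_mem (mem_filter.1 hg).2)
    have h7 := rho_mul_inv ρ g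
    rw [hc, hc', smul_mul_assoc, one_mul, smul_smul] at h7
    have h8 : c * c' = 1 := smul_left_injective k (one_ne_zero (α := End k V)) (h7.trans (one_smul k _).symm)
    rw [hc, hc', mul_smul_comm, mul_one, map_smul, mul_smul_comm, mul_one, smul_mul_assoc, smul_smul, smul_eq_mul,
      mul_right_comm, mul_comm c', h8, one_mul]

variable [IsAlgClosed k] (hZ : Z ≠ ⊤) {A : End k V} {α : MulAut F} {r : ℕ} (hr : r.Prime) (hrk : (r : k) ≠ 0)
  (hA : A ^ r = 1) (hα : α ^ r = 1) (hc : ∀ g, A * ρ g = ρ (α g) * A) (hz : ∀ z ∈ Z, α z = z)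
  (hf : ∀ g, α g = g → g ∈ Z)
include hZ hr hrk hA hα hc hz hf

theorem ec_one (hcop : r.Coprime (Nat.card F)) (h0 : ∀ v, A v = v → v = 0) : finrank k V + 1 = r := by
  obtain ⟨ζ, hζ⟩ := exists_prim hrk
  have := (slots_main _ (h.two_le hS hZ) (sum_finrank hrk hζ hA) (h.slots hS hrk hζ hA hc hz (semi_one hr hα hcop hz hf))
    (S := {⟨0, hr.pos⟩}) (by
      simp only [mem_singleton, forall_eq, Submodule.finrank_eq_zero]
      exact eq_bot_iff.2 fun v hv => h0 v (by simpa using End.mem_eigenspace_iff.1 hv)) (singleton_nonempty _)).1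
  rw [Fintype.card_fin] at this
  exact this.symm

theorem ec_two {D : End k V} {δ : MulAut F} {q e : ℕ} (hq : q.Prime) (hqr : q ≠ r) (hD : D ^ q ^ (e + 1) = 1)
    (hδ : δ ^ q ^ (e + 1) = 1) (hAD : Commute A D) (hαδ : Commute α δ) (hcop : (r * q).Coprime (Nat.card F))
    (hc' : ∀ g, D * ρ g = ρ (δ g) * D) (hz' : ∀ z ∈ Z, δ z = z) (hf' : ∀ g, (δ ^ q ^ e) g = g → g ∈ Z)
    (h0 : ∀ v, A v = v → D v = v) : q ^ (e + 1) = 2 ∧ finrank k V + 1 = 2 * r ∧ ∃ v, v ≠ 0 ∧ A v = v := by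
  classical
  have hn := h.two_le hS hZ
  have hQ : 2 ≤ q ^ (e + 1) := Nat.one_lt_pow e.succ_ne_zero hq.one_lt
  by_cases hqk : (q : k) = 0
  · have := Fact.mk hq
    have := (CharP.charP_iff_prime_eq_zero hq).2 hqk
    obtain ⟨ζ, hζ⟩ := exists_prim hrk
    have hsl := h.slots hS hrk hζ hA hc hz (semi_one hr hα hcop.coprime_mul_right hz hf)
    have hsum := sum_finrank hrk hζ hA
    have hnil : IsNilpotent (D - 1) := ⟨q ^ (e + 1), by rw [sub_one_pow_pow k, hD, sub_self]⟩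
    have hAD' : A * (D - 1) = (D - 1) * A := (hAD.sub_right (Commute.one_right A)).eq
    have hpow : ∀ j : ℕ, j ≤ e → D ^ q ^ j ≠ 1 := fun j hj e' => hZ (eq_top_iff.2 fun g _ => by
      have h1 : ∀ i : ℕ, D ^ i * ρ g = ρ ((δ ^ i) g) * D ^ i := fun i => by
        induction i with
        | zero => simp
        | succ i ih => rw [pow_succ', mul_assoc, ih, ← mul_assoc, hc', mul_assoc, pow_succ' δ, MulAut.mul_apply]
      obtain ⟨l, rfl⟩ := Nat.exists_eq_add_of_le hj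
      have h2 := h1 (q ^ (j + l))
      rw [pow_add q, pow_mul D, e', one_pow, one_mul, mul_one, ← pow_add] at h2
      refine hf' g (fix_of_mem (m := q) (by rw [← pow_mul, ← pow_succ, hδ]) hcop.coprime_mul_left
        (fun z hz => pow_fix (hz' z hz) _) (h.mem_of_eq_one ?_))
      rw [map_mul, ← h2, rho_inv_mul])
    set i₀ : Fin r := ⟨0, hr.pos⟩ with hi₀
    have hE : ∀ v ∈ esp A ζ i₀, A v = v := fun v hv => by simpa [hi₀] using End.mem_eigenspace_iff.1 hv
    by_cases hm : finrank k (esp A ζ i₀) = 0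
    · obtain ⟨-, -, c⟩ := slots_main _ hn hsum hsl (S := {i₀}) (by simpa using hm) (singleton_nonempty _)
      have h1 := pow_eq_zero_of_esp hrk hζ hA hAD' hnil c
      rw [pow_one, sub_eq_zero] at h1
      exact absurd (by rw [pow_zero, pow_one, h1]) (hpow 0 e.zero_le)
    set e₀ := prj A r (ζ ^ (i₀ : ℕ)) with he₀
    have h1 : D * e₀ = e₀ := LinearMap.ext fun v => h0 _ (hE _ (prjE hrk hζ hA i₀ v).2)
    have h2 : e₀ * D = e₀ := (prj_comm hAD.eq _ _).trans h1
    have h3 := fun x => h.sandwich hS (isUnit_of_pow (by omega) hD) hc' hδ hz' hf' h1 h2 (x := x)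
    have h4 : ∀ v ∈ esp A ζ i₀, e₀ v = v := fun v hv => prj_esp_self hrk hζ hv
    obtain ⟨w, hw⟩ := (Module.finrank_pos_iff_exists_ne_zero (R := k)).1 (Nat.pos_of_ne_zero hm)
    have h5 : finrank k (esp A ζ i₀) = 1 := by
      have h6 : ⊤ ≤ Submodule.span k {(1 : End k (esp A ζ i₀))} := fun φ _ => by
        have h7 := h3 ((esp A ζ i₀).subtype ∘ₗ φ ∘ₗ prjE hrk hζ hA i₀) (LinearMap.ext fun v => by
          have h8 : prjE hrk hζ hA i₀ (D v) = prjE hrk hζ hA i₀ v := Subtype.ext (congrArg (· v) h2)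
          simp only [End.mul_apply, LinearMap.comp_apply, Submodule.subtype_apply, h8]
          exact h0 _ (hE _ (Subtype.prop _)))
        refine Submodule.mem_span_singleton.2 ⟨(finrank k V : k)⁻¹ * trace k V
          ((esp A ζ i₀).subtype ∘ₗ φ ∘ₗ prjE hrk hζ hA i₀), LinearMap.ext fun v => Subtype.ext ?_⟩
        have h8 := congrArg (· (v : V)) h7
        simp only [LinearMap.smul_apply, End.mul_apply, h4 _ v.2, LinearMap.comp_apply, Submodule.subtype_apply,
          prjE_self, h4 _ (Subtype.prop _)] at h8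
        rw [mul_smul, LinearMap.smul_apply, LinearMap.smul_apply, End.one_apply, Submodule.coe_smul, Submodule.coe_smul,
          ← h8, inv_smul_smul₀ (h.finrank_ne hS)]
      have h7 := (Submodule.finrank_mono h6).trans (finrank_span_le_card _)
      rw [finrank_top, Module.finrank_linearMap] at h7
      simp only [Set.toFinset_singleton, card_singleton] at h7
      nlinarith [Nat.pos_of_ne_zero hm]
    obtain ⟨a, c, b⟩ := slots_two _ hn hq.two_le hsum hsl h5 fun i hi => by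
      have h7 := congrArg (· (w : V)) (h3 (prj A r (ζ ^ (i : ℕ))) (prj_comm hAD.eq _ _).symm)
      simp only [LinearMap.smul_apply, End.mul_apply, h4 _ w.2, prj_esp_ne hrk hζ hi w.2, map_zero, smul_zero,
        trace_prj hrk hζ hA] at h7
      exact (CharP.cast_eq_zero_iff k q _).1 ((smul_eq_zero.1 h7.symm).resolve_right fun e => hw (Subtype.ext e))
    rw [Fintype.card_fin] at a
    refine ⟨?_, a, w, fun e => hw (Subtype.ext e), hE _ w.2⟩
    have h6 := pow_eq_zero_of_esp hrk hζ hA hAD' hnil b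
    have h7 : ∀ j : ℕ, 2 ≤ q ^ j → D ^ q ^ j = 1 := fun j hj => by
      rw [← sub_eq_zero, ← sub_one_pow_pow k]
      exact pow_eq_zero_of_le hj h6
    have h8 : e = 0 := by_contra fun e0 => hpow e le_rfl (h7 e (Nat.one_lt_pow e0 hq.one_lt))
    rw [h8, c]
    rfl
  · have hN : ((r * q ^ (e + 1) : ℕ) : k) ≠ 0 := by simp [hrk, hqk]
    obtain ⟨ζ, hζ⟩ := exists_prim hN
    have hY : (A * D) ^ (r * q ^ (e + 1)) = 1 := by
      rw [hAD.mul_pow, pow_mul, hA, one_pow, one_mul, mul_comm r, pow_mul, hD, one_pow]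
    have hsl := h.slots hS hN hζ hY (ξ := α * δ)
      (fun g => by rw [mul_assoc, hc', ← mul_assoc, hc, mul_assoc, MulAut.mul_apply])
      (fun z h => by rw [MulAut.mul_apply, hz' z h, hz z h]) (semi_two hr hq hqr hα hδ hαδ hcop hz hz' hf hf')
    have hlt : ∀ l, l < q ^ (e + 1) → r * l < r * q ^ (e + 1) := fun l hl => Nat.mul_lt_mul_of_pos_left hl hr.pos
    have h1 : ∀ l (hl : l < q ^ (e + 1)), ∀ v ∈ esp (A * D) ζ ⟨r * l, hlt l hl⟩, A v = v := fun l hl v hv => by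
      have h2 : ((A * D) ^ q ^ (e + 1)) v = v := by
        by_cases h0 : v = 0
        · simp [h0]
        rw [End.HasEigenvector.pow_apply ⟨hv, h0⟩, ← pow_mul, mul_right_comm, pow_mul, hζ.pow_eq_one, one_pow,
          one_smul]
      rw [hAD.mul_pow, hD, mul_one] at h2
      obtain ⟨u, rfl⟩ := isUnit_of_pow hr.ne_zero hA
      exact mem_of_pow_mem (S := MulAction.stabilizer (End k V)ˣ v) (x := u) (a := q ^ (e + 1)) (b := r)
        (((Nat.coprime_primes hq hr).2 hqr).pow_left _) (by simpa [Units.smul_def] using h2)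
        (Units.ext (by simpa using hA))
    have h2 : ∀ l (hl : l < q ^ (e + 1)), l ≠ 0 → finrank k (esp (A * D) ζ ⟨r * l, hlt l hl⟩) = 0 := fun l hl l0 => by
      rw [Submodule.finrank_eq_zero, eq_bot_iff]
      intro v hv
      have h3 := End.mem_eigenspace_iff.1 hv
      rw [End.mul_apply, h0 v (h1 l hl v hv), h1 l hl v hv, eq_comm, ← sub_eq_zero, ← one_smul k v, smul_smul,
        mul_one, ← sub_smul, smul_eq_zero, sub_eq_zero] at h3
      exact h3.resolve_left (hζ.pow_ne_one_of_pos_of_lt (mul_ne_zero hr.ne_zero l0) (hlt l hl))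
    have h3 : ∀ l (hl : l < q ^ (e + 1)), l ≠ 1 → finrank k (esp (A * D) ζ ⟨r * l, hlt l hl⟩) ≠ 0 := by
      intro l hl l1 e'
      have := (slots_main _ hn (sum_finrank hN hζ hY) hsl (S := {⟨r * l, hlt l hl⟩, ⟨r * 1, hlt 1 hQ⟩})
        (by simpa only [mem_insert, mem_singleton, forall_eq_or_imp, forall_eq] using ⟨e', h2 1 hQ one_ne_zero⟩)
        (insert_nonempty _ _)).2.1
      rw [card_pair fun e => l1 (Nat.eq_of_mul_eq_mul_left hr.pos (congrArg Fin.val e))] at this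
      omega
    have h4 := (slots_main _ hn (sum_finrank hN hζ hY) hsl (S := {⟨r * 1, hlt 1 hQ⟩})
      (by simpa only [mem_singleton, forall_eq] using h2 1 hQ one_ne_zero) (singleton_nonempty _)).1
    have h5 : q ^ (e + 1) = 2 := by_contra fun e' => h3 2 (by omega) (by omega) (h2 2 (by omega) two_ne_zero)
    rw [Fintype.card_fin, h5] at h4
    obtain ⟨w, hw⟩ := (Module.finrank_pos_iff_exists_ne_zero (R := k)).1
      (Nat.pos_of_ne_zero (h3 0 (by omega) zero_ne_one))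
    exact ⟨h5, by omega, w, fun e => hw (Subtype.ext e), h1 0 (by omega) _ w.2⟩

end Heis

end Cfsg.Lib.Tur
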