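import Cfsg.Agent.Lib.Tur.Good

/-!
# The homogeneous case: the centre of the bottom group acts by scalars
-/

set_option autoImplicit false

namespace Cfsg.Lib.Tur

open Module Subgroup Cfsg.Lib.BG Cfsg.Lib.HH
open scoped Cfsg.Lib.Transfer

theorem frob_arith {r c c' n : ℕ} (hr : r.Prime) (h1 : n ^ 2 = c ^ r) (h2 : (r - 1) ^ 2 = c' * c ^ (r - 1)) :
    c = 1 := by
  obtain ⟨s, rfl⟩ := Nat.exists_eq_add_of_le' hr.one_lt.le
  have hs : s ≠ 0 := by have := hr.one_lt; omega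
  rw [Nat.add_sub_cancel] at h2
  by_contra h
  have h0 : c ≠ 0 := fun e => by simp [e, hs] at h2
  have h3 : c ^ s ≤ s ^ 2 := Nat.le_of_dvd (by positivity) ⟨c', by rw [h2, mul_comm]⟩
  have h4 : 2 ^ s ≤ s ^ 2 := (Nat.pow_le_pow_left (by omega) s).trans h3
  have h5 : s ≤ 4 := by
    by_contra hl
    obtain ⟨t, rfl⟩ := Nat.exists_eq_add_of_le' (show 5 ≤ s by omega)
    have : ∀ t : ℕ, (t + 5) ^ 2 < 2 ^ (t + 5) := fun t => by
      induction t with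
      | zero => norm_num
      | succ t ih => rw [show t + 1 + 5 = t + 5 + 1 by ring, pow_succ 2 (t + 5)]; nlinarith [Nat.zero_le t]
    exact absurd (this t) (by omega)
  have h6 : c = 2 := by
    by_contra h6
    have := (Nat.pow_le_pow_left (show 3 ≤ c by omega) s).trans h3
    interval_cases s <;> simp at this hs
  subst h6
  have h7 : n ≤ 5 := by
    by_contra hl
    have := Nat.pow_le_pow_right two_pos (show s + 1 ≤ 5 by omega)
    nlinarith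
  interval_cases s
  · simp at hs
  · simp at h4
  · interval_cases n <;> simp at h1
  · exact absurd hr (by decide)
  · interval_cases n <;> simp at h1

variable {Γ : Type*} [Group Γ] [Finite Γ] {p q r : ℕ} [hp : Fact p.Prime] {Z E P : Subgroup Γ} {a : Γ}

theorem frob_index (hq : q.Prime) (hr : r.Prime) (hqp : q ≠ p) (hqr : q ≠ r) (hrp : r ≠ p) (ha : a ^ r = 1)
    (ha1 : a ≠ 1) (hE : IsPGroup p E) {Y : Subgroup Γ} (hY : IsPGroup q Y) (hYE : Y ≤ 𝐍(E)) (haE : a ∈ 𝐍(E))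
    (haY : a ∈ 𝐍(Y)) (h : ⁅Y, Y⁆ ≤ 𝐂(E)) :
    ∃ c c' : ℕ, 𝐂(⁅Y, zpowers a⁆).relIndex E = c ^ r ∧ 𝐂[a].relIndex E = c' * c ^ (r - 1) := by
  have := Fact.mk hq
  have := Fact.mk hr
  set K := Y ⊓ 𝐂(E) with hK
  have hA := zpowers_le.2 haY
  have hcY := cop_zpowers ha (cop_pgroup hr hY hqr.symm)
  have h1 : E ≤ 𝐍(K) := norm_of_cent (cent_symm inf_le_right)
  have h2 : Y ≤ 𝐍(K) := norm_inf (le_norm Y) (norm_cent hYE)
  have h3 : zpowers a ≤ 𝐍(K) := norm_inf hA (norm_cent (zpowers_le.2 haE))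
  have h4 : ⁅Y, zpowers a⁆ ≤ Y := comm_le_left hA
  have h5 : Nat.card (zpowers a) = r := by rw [Nat.card_zpowers, orderOf_eq_prime ha ha1]
  have h6 : Nat.card (quo (zpowers a) K) = r := by
    rw [card_quo_of_disjoint h3 (disjoint_of_coprime (coprime_mono hcY.symm inf_le_left le_rfl)), h5]
  have h7 : PiGrp {p}ᶜ (⁅Y, zpowers a⁆ ⊔ zpowers a) := PiGrp.sup (p'_of_pgroup (pgroup_of_le hY h4) hqp)
    (PiGrp.of_card_prime (h5 ▸ hr) (h5 ▸ hrp)) (right_norm_comm _ _)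
  have h8 : Group.IsSolvable E := pgroup_sol hE
  have h9 : ∀ X : Subgroup Γ, X ≤ ⁅Y, zpowers a⁆ ⊔ zpowers a →
      Nat.card ↥(quo E K ⊓ 𝐂(quo X K)) = Nat.card ↥(E ⊓ 𝐂(X)) := fun X hX => by
    rw [coprime_quo_cent (hX.trans (sup_le (h4.trans hYE) (zpowers_le.2 haE))) (hX.trans (sup_le (h4.trans h2) h3)) h1
      ((h7.of_le hX).coprime_pgroup hE) (.inr h8), card_quo_of_disjoint (inf_le_left.trans h1) (disjoint_of_coprime
        (coprime_pgroups (pgroup_of_le hY inf_le_left) (pgroup_of_le hE inf_le_left) hqp))]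
  have h10 := Coprime.wielandt_fixpoint_frobenius (K := quo ⁅Y, zpowers a⁆ K) (R := quo (zpowers a) K) (V := quo E K)
    (quo_norm (right_norm_comm _ _) K) (fun x hx hx1 => by
      rw [cent1_eq_of_prime (h6 ▸ hr) hx hx1, quo_comm h2 h3, eq_bot_iff,
        ← (coprime_abelian_cent_dprod (quo_norm hA K) (coprime_quo hcY K)
          ((quo_abelian_iff h2).2 (le_inf (der_le Y) h))).inf]
      exact le_inf inf_le_left (inf_le_inf_right _ (comm_le_left (quo_norm hA K))))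
    (sup_le (quo_norm (h4.trans hYE) K) (quo_norm (zpowers_le.2 haE) K))
    (by rw [← quo_sup (h4.trans h2) h3]; exact coprime_quo (h7.coprime_pgroup hE) K) (sol_quo h8 K)
  rw [← quo_sup (h4.trans h2) h3, h9 _ le_rfl, h9 _ le_sup_left, h9 _ le_sup_right, h6, card_quo_of_disjoint h1
    (disjoint_of_coprime (coprime_pgroups (pgroup_of_le hY inf_le_left) hE hqp)), cent_zpowers] at h10
  obtain ⟨c, hc⟩ := card_dvd (inf_le_inf_left E (cent_anti (le_sup_right : zpowers a ≤ ⁅Y, zpowers a⁆ ⊔ zpowers a)))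
  obtain ⟨c', hc'⟩ := card_dvd (inf_le_inf_left E (cent_anti (le_sup_left : _ ≤ ⁅Y, zpowers a⁆ ⊔ zpowers a)))
  have e1 := card_mul_relIndex (inf_le_left : E ⊓ 𝐂[a] ≤ E)
  have e2 := card_mul_relIndex (inf_le_left : E ⊓ 𝐂(⁅Y, zpowers a⁆) ≤ E)
  rw [inf_relIndex_left] at e1 e2
  rw [cent_zpowers] at hc
  have e3 : 0 < Nat.card ↥(E ⊓ 𝐂(⁅Y, zpowers a⁆ ⊔ zpowers a)) := Nat.card_pos
  have e4 : 0 < Nat.card ↥(E ⊓ 𝐂(⁅Y, zpowers a⁆)) := Nat.card_pos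
  have e5 : 0 < c := Nat.pos_of_mul_pos_left (hc ▸ Nat.card_pos)
  have e6 : 𝐂(⁅Y, zpowers a⁆).relIndex E = c ^ r := by
    rw [← e2, hc, mul_pow, mul_assoc, mul_comm (c ^ r)] at h10
    exact Nat.eq_of_mul_eq_mul_left e4 (Nat.eq_of_mul_eq_mul_left (pow_pos e3 r) h10)
  refine ⟨c, c', e6, Nat.eq_of_mul_eq_mul_left (mul_pos e3 e5) ?_⟩
  rw [← hc, e1, ← e2, hc', e6, hc, ← Nat.sub_add_cancel hr.pos, pow_succ, Nat.add_sub_cancel]
  ring

theorem good_comm (hE : IsPGroup p E) (hZE : Z ≤ E) (hEZ : ⁅E, E⁆ ≤ Z) (hZ : ∀ X : Subgroup Γ, X ≤ 𝐂(Z))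
    (ha : a ^ r = 1) (hc : r.Coprime (Nat.card E)) (haE : a ∈ 𝐍(E)) (h : a ∈ 𝐂(𝐙(E))) :
    Good p Z a (⁅E, zpowers a⁆ ⊔ Z) ∧ Z.relIndex (⁅E, zpowers a⁆ ⊔ Z) = 𝐂[a].relIndex E := by
  have hA := zpowers_le.2 haE
  have h1 : ⁅E, zpowers a⁆ ⊔ Z ≤ E := sup_le (comm_le_left hA) hZE
  have h2 : (⁅E, zpowers a⁆ ⊔ Z) ⊓ 𝐂[a] ≤ Z := by
    rw [sup_comm, inf_comm, ← cent_zpowers]
    intro x hx
    obtain ⟨z, hz, t, ht, rfl⟩ := (mem_sup_left_norm (norm_of_cent (hZ _))).1 hx.2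
    exact mul_mem hz (comm_inf_cent_le hA (cop_zpowers ha hc) (norm_of_cent (hZ _)) (norm_of_cent (hZ _)) hEZ
      ⟨ht, (mul_mem_cancel_left (cent_symm (hZ _) hz)).1 hx.1⟩)
  have h3 := (extra_split hA (cop_zpowers ha hc) (.inl (sol_zpowers a)) (hEZ.trans (cent_symm (hZ E)))
    (zpowers_le.2 h)).1
  refine ⟨⟨pgroup_of_le hE h1, le_sup_right, (der_mono h1).trans hEZ, le_trans (le_inf inf_le_left ?_) h2,
    mem_norm_sup (mem_norm_comm haE (le_norm _ (mem_zpowers a))) (cent_le_norm _ (hZ ⊤ trivial)), h2⟩, ?_⟩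
  · refine le_trans (le_trans (le_inf (inf_le_left.trans (sup_le_sup_left (le_inf hZE (cent_symm (hZ E))) _))
      (le_cent_sup (inf_le_right.trans (cent_anti le_sup_left))
        (inf_le_left.trans (h1.trans (cent_symm inf_le_right))))) h3.le) (le_cent1_iff.2 h)
  · have h4 : ⁅E, zpowers a⁆ ⊔ Z ≤ 𝐂(E ⊓ 𝐂(zpowers a)) :=
      sup_le (comm_le_cent_inf ((hZ _).trans (cent_anti hEZ))) (cent_symm (hZ _))
    have h5 := Coprime.relIndex_sup_right_of_le_normalizer (norm_of_cent (cent_symm h4))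
    rw [le_antisymm (sup_le h1 inf_le_left) ((coprime_cent_prod hA (cop_zpowers ha hc) (.inl (sol_zpowers a))).ge.trans
      (sup_le_sup_right le_sup_left _)), inf_comm E, inf_relIndex_right, cent_zpowers] at h5
    rw [h5, ← inf_relIndex_right (𝐂[a] ⊓ E), inf_assoc, inf_eq_right.2 h1, inf_comm 𝐂[a],
      le_antisymm h2 (le_inf le_sup_right (le_cent1_iff.2 (hZ ⊤ trivial)))]

variable {k W : Type*} [Field k] [AddCommGroup W] [Module k W] {ρ : Γ →* End k W} [IsAlgClosed k]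

omit hp in
theorem roots_of_card {R : Subgroup Γ} (h : (Nat.card R : k) ≠ 0) : HasEnoughRootsOfUnity k (Monoid.exponent R) :=
  haveI : NeZero ((Monoid.exponent R : ℕ) : k) := ⟨fun e => h (by
    obtain ⟨c, hc⟩ := Group.exponent_dvd_nat_card (G := R)
    rw [hc, Nat.cast_mul, e, zero_mul])⟩
  haveI : NeZero (Monoid.exponent R) := ⟨Monoid.exponent_ne_zero_of_finite⟩
  inferInstance

omit hp in
theorem exists_moved (hρ : Function.Injective ρ) {R : Subgroup Γ} (hR : IsMulCommutative R) (hk : (Nat.card R : k) ≠ 0)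
    (h : a ∉ 𝐂(R)) : ∃ μ : Γ → k, a ∉ stab R μ ∧ wt ρ R μ ≠ ⊥ := by
  obtain ⟨μ, hμ⟩ := exists_wt (ρ := ρ) hR (roots_of_card hk) (Y := ⁅R, zpowers a⁆) fun e => h (by
    rw [fixer_top_eq_bot hρ, le_bot_iff, comm_eq_bot_iff'] at e
    exact zpowers_le.1 e)
  exact ⟨μ, fun e => hμ ((commutator_mono le_rfl (zpowers_le.2 e)).trans (comm_stab_le_fixer R μ)),
    ne_bot_of_not_le_fixer hμ⟩

omit hp in
theorem exists_wt_ne_bot [Nontrivial W] {R : Subgroup Γ} (hR : IsMulCommutative R) (hk : (Nat.card R : k) ≠ 0) :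
    ∃ μ : Γ → k, wt ρ R μ ≠ ⊥ := by
  by_contra! hl
  exact top_ne_bot (le_bot_iff.1 (le_of_wt (ρ := ρ) hR (roots_of_card hk) (U := ⊤) (fun _ _ _ _ => trivial)
    fun μ => by rw [hl, inf_bot_eq]))

variable [FiniteDimensional k W] [Nontrivial W] (hρ : Function.Injective ρ) (hZ : Scal ρ Z ⊤)
  (hpk : (p : k) ≠ 0) (hr : r.Prime) (hrk : (r : k) ≠ 0) (ha : a ^ r = 1) (hrp : r ≠ p)
  (hq : q.Prime) (hqp : q ≠ p) (hqr : q ≠ r) (hE : IsPGroup p E) (hZE : Z ≤ E) (hEZ : ⁅E, E⁆ ≤ Z) (haE : a ∈ 𝐍(E))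
include hρ hZ hpk hr hrk ha hrp hq hqp hqr hE hZE hEZ haE

theorem exists_fixed (hP : IsPGroup q P) (hPE : P ≤ 𝐍(E)) (haP : a ∈ 𝐍(P)) (hEP : E ≤ ⁅E, P⁆)
    (hT : ¬ ⁅E, zpowers a⁆ ≤ 𝐂(E)) : ∃ w, w ≠ 0 ∧ ρ a w = w := by
  have := Fact.mk hq
  by_contra h00
  have h0 : ∀ w, ρ a w = w → w = 0 := fun w hw => by_contra fun e => h00 ⟨w, e, hw⟩
  have hc := hZ.central hρ
  have hkR := card_ne_of_pgroup hpk (pgroup_of_le hE (inf_le_left : 𝐙(E) ≤ E))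
  have h1 : a ∈ 𝐂(𝐙(E)) := by_contra fun e => by
    obtain ⟨μ, h1, h2⟩ := exists_moved hρ (abelian_center E) hkR e
    exact h2 (eq_bot_iff.2 fun u hu => blk_zero hr ha (blk_wt _ μ) (zpowers_le.1 (norm_center (zpowers_le.2 haE))) h1
      hu (h0 _ (rho_nm ha u)))
  obtain ⟨g, h2⟩ := good_comm hE hZE hEZ hc ha (cop_pgroup hr hE hrp) haE h1
  have h3 : ¬ ⁅E, zpowers a⁆ ⊔ Z ≤ Z := fun e => hT ((le_sup_left.trans e).trans (cent_symm (hc E)))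
  rw [ec_one_grp hρ hZ g.der g.cen (card_ne_of_pgroup hpk g.pg) h3 hr hrk ha g.na g.fa (cop_pgroup hr g.pg hrp) h0]
    at h2
  have h4 : P ⊓ 𝐂[a] ≤ 𝐂(⁅E, zpowers a⁆ ⊔ Z) := fun z hz => by
    obtain ⟨n, hn⟩ := hP ⟨z, hz.1⟩
    exact (ec_elt hρ hZ hpk hr hrk ha hrp hq hqp hqr g (mem_norm_sup (mem_norm_comm (hPE hz.1)
      (norm_zpowers (mem_cent1.1 hz.2))) (cent_le_norm _ (hc ⊤ trivial))) (mem_cent1.1 hz.2).symm
      (congrArg Subtype.val hn) fun w hw => by rw [h0 w hw, map_zero]).resolve_right fun e => h00 e.2.2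
  have hA := zpowers_le.2 haP
  have hcP := cop_zpowers ha (cop_pgroup hr hP hqr.symm)
  have hcE := coprime_pgroups hP hE hqp
  set Q := ⁅P, zpowers a⁆ with hQ
  have h5 : Q ≤ P := comm_le_left hA
  have h6 : ¬ Q ≤ 𝐂(E) := fun e => h3 (by
    have h6 : P ≤ 𝐂(⁅E, zpowers a⁆ ⊔ Z) := (coprime_cent_prod hA hcP (.inl (sol_zpowers a))).ge.trans
      (sup_le (e.trans (cent_anti (sup_le (comm_le_left (zpowers_le.2 haE)) hZE))) (cent_zpowers a ▸ h4))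
    exact le_trans (le_inf ((sup_le (comm_le_left (zpowers_le.2 haE)) hZE).trans hEP) (cent_symm h6))
      (comm_inf_cent_le hPE hcE (norm_of_cent (hc _)) (norm_of_cent (hc _)) hEZ))
  have h7 : zpowers a ≤ 𝐍(Q) := right_norm_comm _ _
  have h8 : Q ≤ 𝐍(𝐂(E)) := norm_cent (h5.trans hPE)
  have h9 : zpowers a ≤ 𝐍(𝐂(E)) := norm_cent (zpowers_le.2 haE)
  set Y := Q ⊓ copre 𝐂(E) 𝐙(quo Q 𝐂(E)) with hY
  have h10 : ⁅Y, Q⁆ ≤ 𝐂(E) := (quo_le_cent_iff (inf_le_left.trans h8) h8).1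
    (((le_copre_iff (inf_le_left.trans h8)).1 inf_le_right).trans inf_le_right)
  have h11 : zpowers a ≤ 𝐍(Y) := norm_inf h7 (norm_copre h9 (norm_center (quo_norm h7 _)))
  have h12 : ¬ Y ≤ 𝐂(E) := fun e => center_ne_bot_of_nil (pgroup_nil (pgroup_quo (pgroup_of_le hP h5) 𝐂(E)))
    (fun e' => h6 ((quo_eq_bot_iff h8).1 e')) (by
      rw [← quo_eq_bot e, quo_inf_of_le_right (le_copre _), quo_copre, inf_eq_right.2 inf_le_left])
  have hYP : Y ≤ P := inf_le_left.trans h5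
  by_cases h13 : ⁅Y, zpowers a⁆ ≤ 𝐂(E)
  · refine h12 ((coprime_cent_prod h11 (coprime_mono hcP le_rfl hYP) (.inl (sol_zpowers a))).ge.trans
      (sup_le h13 fun z hz => ?_))
    have h14 : ⁅E, zpowers a⁆ ⊔ Z ≤ E ⊓ 𝐂[z] := le_inf (sup_le (comm_le_left (zpowers_le.2 haE)) hZE)
      (le_cent1_iff.2 (h4 ⟨hYP hz.1, cent_zpowers a ▸ hz.2⟩))
    have h15 : E ≤ 𝐍(E ⊓ 𝐂[z]) :=
      norm_of_comm_le ((commutator_mono inf_le_left le_rfl).trans (hEZ.trans (le_sup_right.trans h14)))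
    have h16 : zpowers a ≤ 𝐍(E ⊓ 𝐂[z]) := norm_inf (zpowers_le.2 haE) (le_norm_of_le (le_cent1_iff.2 hz.2))
    have h17 : Q ≤ 𝐍(E ⊓ 𝐂[z]) := le_norm_iff.2 fun y hy x hx => ⟨conj_mem_of_norm (hPE (h5 hy)) hx.1, by
      have e1 := mem_cent.1 (h10 (comm_mem_comm (inv_mem hz.1) (inv_mem hy))) x hx.1
      have e2 := mem_cent1.1 hx.2
      refine mem_cent1.2 ?_
      calc y * x * y⁻¹ * z = y * (x * z) * (z⁻¹ * y⁻¹ * z⁻¹⁻¹ * y⁻¹⁻¹) * y⁻¹ := by group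
        _ = y * z * (x * (z⁻¹ * y⁻¹ * z⁻¹⁻¹ * y⁻¹⁻¹)) * y⁻¹ := by rw [e2]; group
        _ = _ := by rw [e1]; group⟩
    have h18 : quo (zpowers a) (E ⊓ 𝐂[z]) ≤ 𝐂(quo E (E ⊓ 𝐂[z])) :=
      cent_symm ((quo_le_cent_iff h15 h16).2 (le_sup_left.trans h14))
    have h19 : ⁅Q, E⁆ ≤ E ⊓ 𝐂[z] := by
      rw [← quo_le_cent_iff h17 h15]
      refine (quo_mono (coprime_commGid hA hcP).ge _).trans ?_
      rw [quo_comm h17 h16]
      exact (commutator_mono le_rfl h18).trans (comm_le_right (norm_cent (quo_norm (h5.trans hPE) _)))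
    refine zpowers_le.1 (stable_factor_cent (N := E ⊓ 𝐂[z]) ?_ (zpowers_le.2 (le_cent1_iff.1 inf_le_right))
      (coprime_mono hcE (zpowers_le.2 (hYP hz.1)) inf_le_left))
    rw [commutator_comm]
    exact (commutator_mono (zpowers_le.2 hz.1.1) le_rfl).trans h19
  · obtain ⟨c, c', e1, e2⟩ := frob_index hq hr hqp hqr hrp ha (fun e => hT (by simp [e])) hE (pgroup_of_le hP hYP)
      (hYP.trans hPE) haE (zpowers_le.1 h11) ((commutator_mono le_rfl inf_le_left).trans h10)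
    have h14 : ⁅Y, zpowers a⁆ ≤ P := (comm_le_left h11).trans hYP
    obtain ⟨e3, -, e4⟩ := extra_split (h14.trans hPE) (coprime_mono hcE h14 le_rfl) (.inr (pgroup_sol hE))
      (hEZ.trans (cent_symm (hc E))) ((commutator_mono le_rfl (zpowers_le.2 h1)).trans
        (comm_le_right (norm_cent (norm_center (hYP.trans hPE)))))
    have h15 : ⁅E, ⁅Y, zpowers a⁆⁆ ⊔ 𝐙(E) ≤ E := sup_le (comm_le_left (h14.trans hPE)) inf_le_left
    obtain ⟨μ, hμ⟩ := exists_wt_ne_bot (ρ := ρ) (abelian_center E) hkR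
    obtain ⟨n, hn⟩ := sq_grp hρ hZ ((der_mono h15).trans hEZ) e3.le (card_ne_of_pgroup hpk (pgroup_of_le hE h15)) hμ
      ((blk_wt _ μ).inv.mono (h15.trans ((cent_symm inf_le_right).trans (cent_le_stab _ μ))))
      fun z hz => ⟨μ z, fun u hu => mem_wt.1 hu z hz⟩
    rw [e4, e1] at hn
    rw [frob_arith hr hn (h2.trans e2), one_pow, relIndex_eq_one] at e1
    exact h13 (cent_symm e1)

omit hpk hrk hq hqp hqr hZE [IsAlgClosed k] [FiniteDimensional k W] [Nontrivial W] in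
theorem mem_cent_of_fix {w₀ : W} (hw : w₀ ≠ 0) (hw' : ρ a w₀ = w₀) {x : Γ} (hx : x ∈ E ⊓ 𝐂[a])
    (h0 : ∀ w, ρ a w = w → ρ x w = w) : x ∈ 𝐂(E) := by
  have h1 := comm_le_cent_inf (E := E) (T := zpowers a) ((hZ.central hρ _).trans (cent_anti hEZ))
  have h2 := coprime_cent_prod (zpowers_le.2 haE) (cop_zpowers ha (cop_pgroup hr hE hrp)) (.inl (sol_zpowers a))
  rw [cent_zpowers] at h1 h2
  refine cent_anti h2.ge ?_
  rw [cent_sup]
  refine ⟨cent_symm h1 hx, mem_cent.2 fun y hy => ?_⟩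
  rw [← mul_inv_eq_iff_eq_mul, ← mul_inv_eq_one]
  refine inv_eq_one.1 (hZ.eq_one hρ (inv_mem (hEZ (comm_mem_comm (mem_inf.1 hy).1 (mem_inf.1 hx).1))) hw ?_)
  have h3 : ρ a (ρ y⁻¹ w₀) = ρ y⁻¹ w₀ := by
    rw [← rho_mul, ← mem_cent1.1 (inv_mem (mem_inf.1 hy).2), rho_mul, hw']
  rw [show (y * x * y⁻¹ * x⁻¹)⁻¹ = x * y * x⁻¹ * y⁻¹ by group, rho_mul, rho_mul, rho_mul,
    show ρ x⁻¹ (ρ y⁻¹ w₀) = _ from inv_mem (show x ∈ fx ρ _ from h0 _ h3), rho_self_inv, h0 _ hw']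

theorem comm_le_cent_of_fix {w₀ : W} (hw : w₀ ≠ 0) (hw' : ρ a w₀ = w₀) {B B' : Subgroup Γ} (hB : IsPGroup q B)
    (hBE : B ≤ 𝐍(E)) (hBa : B ≤ 𝐂[a]) (h0 : ∀ d ∈ B, ∀ w, ρ a w = w → ρ d w = w) (h1 : B' ≤ 𝐍(E))
    (h2 : B' ≤ 𝐍(B)) (h3 : B' ≤ 𝐂[a]) (h4 : B ≤ ⁅B, B'⁆) : ⁅E, B⁆ ≤ 𝐂(E) := by
  have hc := hZ.central hρ
  by_cases h5 : a ∈ 𝐂(𝐙(E))
  · obtain ⟨g, -⟩ := good_comm hE hZE hEZ hc ha (cop_pgroup hr hE hrp) haE h5
    have h6 : ∀ X : Subgroup Γ, X ≤ 𝐍(E) → X ≤ 𝐂[a] → X ≤ 𝐍(⁅E, zpowers a⁆ ⊔ Z) := fun X e e' =>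
      norm_sup (norm_comm e (norm_of_cent (cent_zpowers a ▸ e'))) (norm_of_cent (hc X))
    have h7 := le_cent_of_good hρ hZ hpk hr hrk ha hrp hq hqp hqr g hB (h6 B hBE hBa) hBa h0 (h6 B' h1 h3) h2 h4
    refine (Coprime.commutator_le_of_subset_mul_centralizer (P := E ⊓ 𝐂[a]) fun x hx => ?_).trans fun x hx => ?_
    · obtain ⟨c, hc', n, hn, rfl⟩ := Coprime.exists_centralizer_mul_commutator (zpowers_le.2 haE)
        (cop_zpowers ha (cop_pgroup hr hE hrp)) (.inl (sol_zpowers a)) hx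
      exact ⟨c, cent_zpowers a ▸ hc', by rw [inv_mul_cancel_left]; exact cent_symm h7 (mem_sup_left hn)⟩
    · have h8 : ⁅E ⊓ 𝐂[a], B⁆ ≤ fixer ρ (fix ρ (zpowers a)) :=
        (commutator_mono le_rfl (show B ≤ fixer ρ (fix ρ (zpowers a)) from
          fun d hd w hw => h0 d hd w (hw a (mem_zpowers a)))).trans (comm_le_right
          (inv_fix (norm_of_cent (cent_zpowers a ▸ inf_le_right))).norm_fixer)
      exact mem_cent_of_fix hρ hZ hr ha hrp hE hEZ haE hw hw' (comm_le_left (norm_inf hBE (le_norm_of_le hBa)) hx)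
        fun w e => h8 hx w (zpowers_le.2 (show a ∈ fx ρ w from e))
  · obtain ⟨μ, h6, h7⟩ := exists_moved hρ (abelian_center E)
      (card_ne_of_pgroup hpk (pgroup_of_le hE (inf_le_left : 𝐙(E) ≤ E))) h5
    have h8 : B ≤ fixer ρ (wt ρ 𝐙(E) μ) := fun d hd u hu => by
      obtain ⟨n, hn⟩ := hB ⟨d, hd⟩
      exact blk_move hr ha (blk_wt _ μ) (zpowers_le.1 (norm_center (zpowers_le.2 haE))) h6 (norm_center hBE hd)
        (mem_cent1.1 (hBa hd)).symm (congrArg Subtype.val hn) (((Nat.coprime_primes hq hr).2 hqr).pow_left n) hu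
        (h0 d hd _ (rho_nm ha u))
    have h9 : E ≤ 𝐍(fixer ρ (wt ρ 𝐙(E) μ)) :=
      ((blk_wt _ μ).inv.mono ((cent_symm inf_le_right).trans (cent_le_stab _ μ))).norm_fixer
    obtain ⟨u, hu, hu0⟩ := (Submodule.ne_bot_iff _).1 h7
    refine fun x hx => mem_cent.2 fun y hy => ?_
    have h10 := (commutator_mono le_rfl h8).trans (comm_le_right h9) hx
    rw [← mul_inv_eq_iff_eq_mul, ← mul_inv_eq_one]
    exact hZ.eq_one hρ (hEZ (comm_mem_comm hy (comm_le_left hBE hx))) hu0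
      (mul_mem (conj_mem_of_norm (h9 hy) h10) (inv_mem h10) u hu)

end Cfsg.Lib.Tur
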