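import Cfsg.Agent.Lib.Tur.Move
import Cfsg.Agent.Lib.HH.Extra

/-!
# Elements fixing the fixed points of an operator of prime order on a module of a group of symplectic type
-/

set_option autoImplicit false

namespace Cfsg.Lib.Tur

open Module Subgroup Cfsg.Lib.BG Cfsg.Lib.HH
open scoped Cfsg.Lib.Transfer

theorem card_ne_of_pgroup {k G : Type*} [Field k] [Group G] [Finite G] {p : ℕ} [Fact p.Prime] (hp : (p : k) ≠ 0)
    (h : IsPGroup p G) : (Nat.card G : k) ≠ 0 := by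
  obtain ⟨n, hn⟩ := IsPGroup.iff_card.1 h
  rw [hn, Nat.cast_pow]
  exact pow_ne_zero _ hp

theorem cop_pgroup {G : Type*} [Group G] [Finite G] {p q : ℕ} [hp : Fact p.Prime] (hq : q.Prime) (h : IsPGroup p G)
    (e : q ≠ p) : q.Coprime (Nat.card G) :=
  Coprime.coprime_card_of_isPGroup h ((Nat.coprime_primes hq hp.1).2 e)

variable {Γ : Type*} [Group Γ]

/-- `F` is a `p`-group with centre `Z` and abelian central quotient, on which `a` acts without fixed points. -/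
structure Good (p : ℕ) (Z : Subgroup Γ) (a : Γ) (F : Subgroup Γ) : Prop where
  pg : IsPGroup p F
  le : Z ≤ F
  der : ⁅F, F⁆ ≤ Z
  cen : F ⊓ 𝐂(F) ≤ Z
  na : a ∈ 𝐍(F)
  fa : F ⊓ 𝐂[a] ≤ Z

theorem norm_zpowers {a d : Γ} (h : a * d = d * a) : a ∈ 𝐍(zpowers d) :=
  cent_le_norm _ (by rw [cent_zpowers]; exact mem_cent1.2 h)

theorem mem_norm_comm {x : Γ} {H K : Subgroup Γ} (h : x ∈ 𝐍(H)) (h' : x ∈ 𝐍(K)) : x ∈ 𝐍(⁅H, K⁆) :=
  zpowers_le.1 (norm_comm (zpowers_le.2 h) (zpowers_le.2 h'))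

theorem mem_norm_sup {x : Γ} {H K : Subgroup Γ} (h : x ∈ 𝐍(H)) (h' : x ∈ 𝐍(K)) : x ∈ 𝐍(H ⊔ K) :=
  zpowers_le.1 (norm_sup (zpowers_le.2 h) (zpowers_le.2 h'))

theorem mem_norm_inf {x : Γ} {H K : Subgroup Γ} (h : x ∈ 𝐍(H)) (h' : x ∈ 𝐍(K)) : x ∈ 𝐍(H ⊓ K) :=
  zpowers_le.1 (norm_inf (zpowers_le.2 h) (zpowers_le.2 h'))

theorem mem_norm_cent {x : Γ} {H : Subgroup Γ} (h : x ∈ 𝐍(H)) : x ∈ 𝐍(𝐂(H)) :=
  zpowers_le.1 (norm_cent (zpowers_le.2 h))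

variable [Finite Γ] {p : ℕ} [hp : Fact p.Prime] {Z F : Subgroup Γ} {a d : Γ}

namespace Good

omit [Finite Γ] hp in
theorem center (h : Good p Z a F) (hZ : ∀ X : Subgroup Γ, X ≤ 𝐂(Z)) : 𝐙(F) = Z :=
  le_antisymm h.cen (le_inf h.le (cent_symm (hZ F)))

theorem comm (h : Good p Z a F) (hZ : ∀ X : Subgroup Γ, X ≤ 𝐂(Z)) (hd : d ∈ 𝐍(F)) (had : a * d = d * a) {m : ℕ}
    (hm : d ^ m = 1) (hc : m.Coprime (Nat.card F)) : Good p Z a (⁅F, zpowers d⁆ ⊔ Z) ∧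
      (⁅F, zpowers d⁆ ⊔ Z) ⊓ 𝐂[d] ≤ Z ∧ Z.relIndex (⁅F, zpowers d⁆ ⊔ Z) = 𝐂[d].relIndex F := by
  have h1 := extra_split (zpowers_le.2 hd) (cop_zpowers hm hc) (.inl (sol_zpowers d))
    (h.der.trans (cent_symm (hZ F))) (by rw [h.center hZ]; exact hZ _)
  rw [h.center hZ, cent_zpowers] at h1
  have h2 : ⁅F, zpowers d⁆ ⊔ Z ≤ F := sup_le (comm_le_left (zpowers_le.2 hd)) h.le
  exact ⟨⟨pgroup_of_le h.pg h2, le_sup_right, (der_mono h2).trans h.der, h1.1.le,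
    mem_norm_sup (mem_norm_comm h.na (norm_zpowers had)) (cent_le_norm _ (hZ ⊤ trivial)),
    (inf_le_inf_right _ h2).trans h.fa⟩, h1.2.1.le, h1.2.2⟩

theorem cent (h : Good p Z a F) (hZ : ∀ X : Subgroup Γ, X ≤ 𝐂(Z)) (hd : d ∈ 𝐍(F)) (had : a * d = d * a) {m : ℕ}
    (hm : d ^ m = 1) (hc : m.Coprime (Nat.card F)) : Good p Z a (F ⊓ 𝐂[d]) := by
  refine ⟨pgroup_of_le h.pg inf_le_left, le_inf h.le (le_cent1_iff.2 (hZ ⊤ trivial)),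
    (der_mono inf_le_left).trans h.der, le_trans (le_inf (inf_le_left.trans inf_le_left) ?_) h.cen,
    mem_norm_inf h.na (le_norm _ (mem_cent1.2 had)), (inf_le_inf_right _ inf_le_left).trans h.fa⟩
  have h1 := coprime_cent_prod (zpowers_le.2 hd) (cop_zpowers hm hc) (.inl (sol_zpowers d))
  have h2 := comm_le_cent_inf (E := F) (T := zpowers d) ((hZ _).trans (cent_anti h.der))
  rw [cent_zpowers] at h1 h2
  exact le_trans (le_cent_sup (inf_le_left.trans (cent_symm h2)) inf_le_right) (cent_anti h1.ge)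

theorem inv_mod (h : Good p Z a F) (hZ : ∀ X : Subgroup Γ, X ≤ 𝐂(Z)) (hd : d ∈ 𝐍(F)) {m : ℕ} (hm : d ^ m = 1)
    (hc : m.Coprime (Nat.card F)) (h2 : d * d ∈ 𝐂(F)) {x : Γ} (hx : x ∈ F) : x * (d * x * d⁻¹) ∈ F ⊓ 𝐂[d] := by
  have h1 := conj_mem_of_norm hd hx
  refine ⟨mul_mem hx h1, mem_cent1.2 (Coprime.commutator_eq_one_of_commute ?_ ?_).symm⟩
  all_goals
    rw [show d * (x * (d * x * d⁻¹)) * d⁻¹ * (x * (d * x * d⁻¹))⁻¹ =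
      d * x * d⁻¹ * (d * d * x * (d * d)⁻¹) * (d * x * d⁻¹)⁻¹ * x⁻¹ by group, ← mem_cent.1 h2 x hx,
      mul_inv_cancel_right]
  · exact (mem_cent.1 (hZ ⊤ trivial) _ (h.der (comm_mem_comm h1 hx))).symm
  · exact (hc.coprime_dvd_left (orderOf_dvd_of_pow_eq_one hm)).coprime_dvd_right
      (Subgroup.orderOf_dvd_natCard _ (h.le (h.der (comm_mem_comm h1 hx))))

end Good

variable {k W : Type*} [Field k] [AddCommGroup W] [Module k W] {ρ : Γ →* End k W}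
variable [FiniteDimensional k W] [IsAlgClosed k] [Nontrivial W] (hρ : Function.Injective ρ) (hZ : Scal ρ Z ⊤)
  (hpk : (p : k) ≠ 0) {r : ℕ} (hr : r.Prime) (hrk : (r : k) ≠ 0) (ha : a ^ r = 1) (hrp : r ≠ p)
  {q : ℕ} (hq : q.Prime) (hqp : q ≠ p) (hqr : q ≠ r)
include hρ hZ hpk hr hrk ha hrp hq hqp hqr

theorem ec_elt (h : Good p Z a F) (hd : d ∈ 𝐍(F)) (had : a * d = d * a) {n : ℕ} (hn : d ^ q ^ n = 1)
    (h0 : ∀ w, ρ a w = w → ρ d w = w) : d ∈ 𝐂(F) ∨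
      (d * d ∈ 𝐂(F) ∧ 𝐂[d].relIndex F = (2 * r - 1) ^ 2 ∧ ∃ w, w ≠ 0 ∧ ρ a w = w) := by
  classical
  refine or_iff_not_imp_left.2 fun h1 => ?_
  have h2 : ∃ e, d ^ q ^ e ∈ 𝐂(F) := ⟨n, hn ▸ one_mem _⟩
  obtain ⟨e, he⟩ := Nat.exists_eq_succ_of_ne_zero (n := Nat.find h2) fun e => h1 (by
    simpa [e] using Nat.find_spec h2)
  have h3 := Nat.find_spec h2
  have h4 := Nat.find_min h2 (he ▸ e.lt_succ_self)
  rw [he] at h3
  have hc := (cop_pgroup hq h.pg hqp).pow_left n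
  have had' : a * d ^ q ^ e = d ^ q ^ e * a := ((show Commute a d from had).pow_right _).eq
  obtain ⟨g1, g2, g3⟩ := h.comm (hZ.central hρ) (pow_mem hd (q ^ e)) had' (m := q ^ n)
    (by rw [← pow_mul, mul_comm, pow_mul, hn, one_pow]) hc
  have h5 : ⁅F, zpowers (d ^ q ^ e)⁆ ⊔ Z ≤ F := sup_le (comm_le_left (zpowers_le.2 (pow_mem hd _))) h.le
  obtain ⟨h6, h7, h8⟩ := ec_two_grp hρ hZ g1.der g1.cen (card_ne_of_pgroup hpk g1.pg) (fun e' => h4 (zpowers_le.1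
    (stable_factor_cent (le_sup_left.trans e') (hZ.central hρ _) (cop_zpowers (r := q ^ n)
      (by rw [← pow_mul, mul_comm, pow_mul, hn, one_pow]) (hc.coprime_dvd_right (card_dvd h.le)))))) hr hrk ha g1.na
    g1.fa hq hqr (d := d) (e := e) (mem_norm_sup (mem_norm_comm hd (norm_zpowers (pow_mul_comm' d _).symm))
      (cent_le_norm _ (hZ.central hρ ⊤ trivial))) had
    ((hc.coprime_dvd_left (orderOf_dvd_of_pow_eq_one hn)).coprime_dvd_right (card_dvd h5))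
    (Nat.Coprime.mul_left (cop_pgroup hr g1.pg hrp) (cop_pgroup hq g1.pg hqp)) (cent_anti h5 h3) g2 h0
  have h9 : e = 0 := by
    by_contra h9
    have := Nat.pow_lt_pow_right hq.one_lt (show 1 < e + 1 by omega)
    rw [h6, pow_one] at this
    exact absurd hq.two_le (by omega)
  subst h9
  rw [pow_zero, pow_one] at g3 h7
  rw [Nat.succ_eq_add_one, h6, sq] at h3
  exact ⟨h3, g3 ▸ h7, h8⟩

theorem mul_mem_cent (h : Good p Z a F) {B : Subgroup Γ} (hB : IsPGroup q B) (hBF : B ≤ 𝐍(F)) (hBa : B ≤ 𝐂[a])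
    (h0 : ∀ d ∈ B, ∀ w, ρ a w = w → ρ d w = w) {x y : Γ} (hx : x ∈ B) (hy : y ∈ B) (hx' : x ∉ 𝐂(F))
    (hy' : y ∉ 𝐂(F)) : x * y ∈ 𝐂(F) := by
  have hc := hZ.central hρ
  have e0 : ∀ d ∈ B, ∃ n, d ^ q ^ n = 1 := fun d hd => (hB ⟨d, hd⟩).imp fun _ e => congrArg Subtype.val e
  have e1 : ∀ {F : Subgroup Γ}, Good p Z a F → ∀ d ∈ B, d ∈ 𝐍(F) → d ∉ 𝐂(F) →
      d * d ∈ 𝐂(F) ∧ 𝐂[d].relIndex F = (2 * r - 1) ^ 2 := fun h d hd hd' hd'' => by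
    obtain ⟨n, hn⟩ := e0 d hd
    have := (ec_elt hρ hZ hpk hr hrk ha hrp hq hqp hqr h hd' (mem_cent1.1 (hBa hd)).symm hn (h0 d hd)).resolve_left hd''
    exact ⟨this.1, this.2.1⟩
  have e2 : ∀ d ∈ B, d * d ∈ 𝐂(F) := fun d hd => by
    by_cases e : d ∈ 𝐂(F)
    exacts [mul_mem e e, (e1 h d hd (hBF hd) e).1]
  have e3 : ∀ d ∈ B, ∀ d' ∈ B, d ∉ 𝐂(F) → d' ∉ 𝐂(F) → F ⊓ 𝐂[d] ≤ 𝐂[d'] → F ⊓ 𝐂[d'] ≤ 𝐂[d] := by
    intro d hd d' hd' h1 h2 h3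
    have h4 := card_mul_relIndex (inf_le_left : F ⊓ 𝐂[d] ≤ F)
    have h5 := card_mul_relIndex (inf_le_left : F ⊓ 𝐂[d'] ≤ F)
    rw [inf_relIndex_left] at h4 h5
    rw [(e1 h d hd (hBF hd) h1).2] at h4
    rw [(e1 h d' hd' (hBF hd') h2).2, ← h4] at h5
    have h6 : 0 < (2 * r - 1) ^ 2 := pow_pos (by have := hr.pos; omega) 2
    exact (eq_of_le_of_card_le (le_inf inf_le_left h3) (Nat.eq_of_mul_eq_mul_right h6 h5).le).ge.trans inf_le_right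
  obtain ⟨n, hn⟩ := e0 x hx
  obtain ⟨n', hn'⟩ := e0 y hy
  have hcq := fun n => (cop_pgroup hq h.pg hqp).pow_left n
  have g := h.cent hc (hBF hx) (mem_cent1.1 (hBa hx)).symm hn (hcq n)
  by_contra hxy
  by_cases h1 : y ∈ 𝐂(F ⊓ 𝐂[x])
  · have h2 : F ⊓ 𝐂[x] ≤ 𝐂[y] := le_cent1_iff.2 h1
    obtain ⟨n'', hn''⟩ := e0 _ (mul_mem hx hy)
    refine hxy (zpowers_le.1 (stable_factor_cent (N := F ⊓ 𝐂[x]) ?_
      (zpowers_le.2 (mul_mem (le_cent1_iff.1 inf_le_right) h1))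
      (cop_zpowers hn'' ((hcq _).coprime_dvd_right (card_dvd inf_le_left)))))
    rw [commutator_comm]
    refine comm_le_iff.2 fun b hb t ht => (zpowers_le.2 (show x * y ∈ cst (F ⊓ 𝐂[x]) t from
      ⟨cent_le_norm _ (mul_mem (le_cent1_iff.1 inf_le_right) h1), ?_⟩) hb).2
    have h3 := h.inv_mod hc (hBF hy) hn' (hcq _) (e2 y hy) ht
    have h4 := h.inv_mod hc (hBF hx) hn (hcq _) (e2 x hx) ht
    have h5 : t * (y * t * y⁻¹) ∈ F ⊓ 𝐂[x] := ⟨h3.1, e3 x hx y hy hx' hy' h2 h3⟩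
    have h6 : F ≤ 𝐍(F ⊓ 𝐂[x]) := norm_of_comm_le ((commutator_mono inf_le_left le_rfl).trans (h.der.trans g.le))
    have h7 := mem_cent1.1 h5.2
    rw [show x * y * t * (x * y)⁻¹ * t⁻¹ =
      (t * (x * t * x⁻¹))⁻¹ * (t * (x * (t * (y * t * y⁻¹)) * x⁻¹) * t⁻¹) by group, ← h7, mul_inv_cancel_right]
    exact mul_mem (inv_mem h4) (conj_mem_of_norm (h6 ht) h5)
  · have h2 : x⁻¹ * y⁻¹ * x * y ∈ 𝐂(F) := by
      rw [show x⁻¹ * y⁻¹ * x * y = (x * x)⁻¹ * (x * y⁻¹ * (x * y⁻¹)) * (y * y) by group]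
      exact mul_mem (mul_mem (inv_mem (e2 x hx)) (e2 _ (mul_mem hx (inv_mem hy)))) (e2 y hy)
    have h3 : y ∈ 𝐍(F ⊓ 𝐂[x]) := Subgroup.mem_normalizer_fintype fun t ht => ⟨conj_mem_of_norm (hBF hy) ht.1, by
      refine mem_cent1.2 ?_
      have h4 := mem_cent.1 h2 t ht.1
      have h5 := mem_cent1.1 ht.2
      calc y * t * y⁻¹ * x = y * (t * x) * (x⁻¹ * y⁻¹ * x * y) * y⁻¹ := by group
        _ = y * x * (t * (x⁻¹ * y⁻¹ * x * y)) * y⁻¹ := by rw [h5]; group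
        _ = x * (y * t * y⁻¹) := by rw [h4]; group⟩
    have h4 := (e1 g y hy h3 h1).2
    rw [← (e1 h y hy (hBF hy) hy').2] at h4
    refine h1 (le_cent1_iff.1 fun t ht => ?_)
    have h5 : t ∈ 𝐂[x * y] := e3 _ (mul_mem hx hy) x hx hxy hx' (fun s hs => ?_) ht
    · rw [mem_cent1] at h5 ⊢
      rw [← mul_right_inj x, ← mul_assoc, ← mem_cent1.1 ht.2, mul_assoc, h5, mul_assoc]
    obtain ⟨u, hu, h6⟩ := Coprime.exists_inv_mul_mem_of_relIndex_eq (inf_le_left : F ⊓ 𝐂[x] ≤ F) h4.ge hs.1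
    have h7 := mem_cent1.1 (conj_mem_of_norm h3 hu).2
    have h8 : x * (u⁻¹ * s) * x⁻¹ * (u⁻¹ * s)⁻¹ = (y * u * y⁻¹)⁻¹ * u := by
      have h9 := mem_cent1.1 hs.2
      have h10 := mem_cent1.1 h6
      calc x * (u⁻¹ * s) * x⁻¹ * (u⁻¹ * s)⁻¹ = x * (u⁻¹ * s * y) * (x * y)⁻¹ * (u⁻¹ * s)⁻¹ := by group
        _ = (x * (y * u * y⁻¹) * x⁻¹)⁻¹ * (x * y * s) * (x * y)⁻¹ * s⁻¹ * u := by rw [h10]; group
        _ = _ := by rw [← h9, ← h7]; group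
    have h9 : (y * u * y⁻¹)⁻¹ * u ∈ F ⊓ 𝐂[x] := mul_mem (inv_mem (conj_mem_of_norm h3 hu)) hu
    have h10 := Coprime.commutator_eq_one_of_commute (a := x) (k := u⁻¹ * s)
      (by rw [h8]; exact (mem_cent1.1 h9.2).symm) (by
        rw [h8]
        exact ((hcq n).coprime_dvd_left (orderOf_dvd_of_pow_eq_one hn)).coprime_dvd_right
          (Subgroup.orderOf_dvd_natCard _ h9.1))
    rw [← mul_inv_cancel_left u s]
    exact mul_mem hu.2 (mem_cent1.2 h10.symm)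

theorem le_cent_of_good (h : Good p Z a F) {B B' : Subgroup Γ} (hB : IsPGroup q B) (hBF : B ≤ 𝐍(F))
    (hBa : B ≤ 𝐂[a]) (h0 : ∀ d ∈ B, ∀ w, ρ a w = w → ρ d w = w) (h1 : B' ≤ 𝐍(F)) (h2 : B' ≤ 𝐍(B))
    (h3 : B ≤ ⁅B, B'⁆) : B ≤ 𝐂(F) := by
  refine h3.trans (comm_le_iff.2 fun d hd b hb => ?_)
  rw [mul_assoc, mul_assoc, ← mul_assoc b]
  by_cases e : d ∈ 𝐂(F)
  · exact mul_mem e (conj_mem_of_norm (norm_cent h1 hb) (inv_mem e))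
  · refine mul_mem_cent hρ hZ hpk hr hrk ha hrp hq hqp hqr h hB hBF hBa h0 hd
      (conj_mem_of_norm (h2 hb) (inv_mem hd)) e fun e' => e ?_
    simpa [mul_assoc] using inv_mem (conj_mem_of_norm' (norm_cent h1 hb) e')

end Cfsg.Lib.Tur
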