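import Cfsg.Agent.Lib.Tur.Count
import Cfsg.Agent.Lib.HH.Weight

/-!
# The counting results for subgroups of a faithfully represented group
-/

set_option autoImplicit false

namespace Cfsg.Lib.Tur

open Module Subgroup Cfsg.Lib.BG Cfsg.Lib.HH Cfsg.Lib.HH.ModB
open scoped Cfsg.Lib.Transfer

variable {k W Γ : Type*} [Field k] [AddCommGroup W] [Module k W] [Group Γ] {ρ : Γ →* End k W}

/-- The elements of `Z` act by scalars on `U`. -/
def Scal (ρ : Γ →* End k W) (Z : Subgroup Γ) (U : Submodule k W) : Prop := ∀ z ∈ Z, ∃ c : k, ∀ u ∈ U, ρ z u = c • u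

theorem Scal.mono {Z Z' : Subgroup Γ} {U U' : Submodule k W} (h : Scal ρ Z U) (hZ : Z' ≤ Z) (hU : U' ≤ U) :
    Scal ρ Z' U' := fun z hz => (h z (hZ hz)).imp fun _ hc u hu => hc u (hU hu)

theorem Scal.central (hρ : Function.Injective ρ) {Z : Subgroup Γ} (h : Scal ρ Z ⊤) (X : Subgroup Γ) : X ≤ 𝐂(Z) :=
  fun x _ => mem_cent.2 fun z hz => hρ (LinearMap.ext fun v => by
    obtain ⟨c, hc⟩ := h z hz
    rw [rho_mul, rho_mul, hc _ trivial, hc _ trivial, map_smul])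

theorem Scal.eq_one (hρ : Function.Injective ρ) {Z : Subgroup Γ} (h : Scal ρ Z ⊤) {z : Γ} (hz : z ∈ Z) {v : W}
    (hv : v ≠ 0) (e : ρ z v = v) : z = 1 := by
  obtain ⟨c, hc⟩ := h z hz
  rw [hc _ trivial, ← sub_eq_zero, ← one_smul k v, smul_smul, mul_one, ← sub_smul, smul_eq_zero, sub_eq_zero] at e
  exact hρ (LinearMap.ext fun w => by rw [hc _ trivial, e.resolve_right hv, map_one, one_smul, End.one_apply])

/-- The automorphism of `F` induced by an element of its normalizer. -/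
abbrev cj {F : Subgroup Γ} {x : Γ} (h : x ∈ 𝐍(F)) : MulAut F := F.normalizerMonoidHom ⟨x, h⟩

theorem cj_apply {F : Subgroup Γ} {x : Γ} (h : x ∈ 𝐍(F)) (g : F) : (cj h g : Γ) = x * g * x⁻¹ := rfl

theorem cj_pow {F : Subgroup Γ} {x : Γ} (h : x ∈ 𝐍(F)) (j : ℕ) : cj h ^ j = cj (pow_mem h j) := by
  rw [← map_pow]; rfl

theorem cj_eq_one {F : Subgroup Γ} {x : Γ} (h : x ∈ 𝐍(F)) (hx : x ∈ 𝐂(F)) : cj h = 1 :=
  MulEquiv.ext fun g => Subtype.ext (by rw [cj_apply, ← mem_cent.1 hx g g.2, mul_inv_cancel_right]; rfl)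

theorem cj_fix {F Z : Subgroup Γ} {x : Γ} (h : x ∈ 𝐍(F)) (hf : F ⊓ 𝐂[x] ≤ Z) (g : F) (hg : cj h g = g) :
    g ∈ Z.subgroupOf F :=
  hf ⟨g.2, mem_cent1.2 (mul_inv_eq_iff_eq_mul.1 (congrArg Subtype.val hg)).symm⟩

theorem cj_cent {F Z : Subgroup Γ} {x : Γ} (h : x ∈ 𝐍(F)) (hx : x ∈ 𝐂(Z)) (z : F) (hz : z ∈ Z.subgroupOf F) :
    cj h z = z := Subtype.ext (by rw [cj_apply, ← mem_cent.1 hx z hz, mul_inv_cancel_right])

theorem cj_comm {F : Subgroup Γ} {x y : Γ} (h : x ∈ 𝐍(F)) (h' : y ∈ 𝐍(F)) (e : x * y = y * x) :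
    Commute (cj h) (cj h') := by
  rw [Commute, SemiconjBy, ← map_mul, ← map_mul]
  exact congrArg _ (Subtype.ext e)

/-- The representation of a subgroup on an invariant submodule. -/
abbrev sub (ρ : Γ →* End k W) {F : Subgroup Γ} {U : Submodule k W} (h : Inv ρ F U) : F →* End k U :=
  Representation.subrepresentation (ρ.comp F.subtype) U fun g u hu => h g g.2 u hu

theorem sub_apply {F : Subgroup Γ} {U : Submodule k W} (h : Inv ρ F U) (g : F) (u : U) :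
    (sub ρ h g u : W) = ρ g u := rfl

/-- The restriction of a group element to an invariant submodule. -/
def rs (ρ : Γ →* End k W) {x : Γ} {U : Submodule k W} (h : ∀ u ∈ U, ρ x u ∈ U) : End k U := (ρ x).restrict h

theorem rs_apply {x : Γ} {U : Submodule k W} (h : ∀ u ∈ U, ρ x u ∈ U) (u : U) : (rs ρ h u : W) = ρ x u := rfl

theorem rs_pow {x : Γ} {U : Submodule k W} (h : ∀ u ∈ U, ρ x u ∈ U) (i : ℕ) (u : U) :
    ((rs ρ h ^ i) u : W) = ρ (x ^ i) u := by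
  rw [rs, End.pow_restrict, map_pow]; rfl

theorem rs_pow_one {x : Γ} {U : Submodule k W} (h : ∀ u ∈ U, ρ x u ∈ U) {i : ℕ} (hi : x ^ i = 1) : rs ρ h ^ i = 1 :=
  LinearMap.ext fun u => Subtype.ext (by rw [rs_pow, hi, map_one]; rfl)

theorem rs_comm {x y : Γ} {U : Submodule k W} (h : ∀ u ∈ U, ρ x u ∈ U) (h' : ∀ u ∈ U, ρ y u ∈ U)
    (e : x * y = y * x) : rs ρ h * rs ρ h' = rs ρ h' * rs ρ h :=
  LinearMap.ext fun u => Subtype.ext (show ρ x (ρ y u) = ρ y (ρ x u) by rw [← rho_mul, ← rho_mul, e])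

theorem rs_sub {F : Subgroup Γ} {x : Γ} {U : Submodule k W} (h : ∀ u ∈ U, ρ x u ∈ U) (h' : Inv ρ F U)
    (hx : x ∈ 𝐍(F)) (g : F) : rs ρ h * sub ρ h' g = sub ρ h' (cj hx g) * rs ρ h :=
  LinearMap.ext fun u => Subtype.ext (show ρ x (ρ g u) = ρ (x * g * x⁻¹) (ρ x u) by
    rw [← rho_mul, ← rho_mul, inv_mul_cancel_right])

variable [Finite Γ] [FiniteDimensional k W] [IsAlgClosed k] (hρ : Function.Injective ρ) {F Z₀ Z : Subgroup Γ}
  (hZ₀ : Scal ρ Z₀ ⊤) (hF : ⁅F, F⁆ ≤ Z₀) (hFZ : F ⊓ 𝐂(F) ≤ Z) (hk : (Nat.card F : k) ≠ 0)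
include hρ hZ₀ hF hFZ hk

theorem exists_heis {U : Submodule k W} (hU : U ≠ ⊥) (hFU : Inv ρ F U) (hZ : Scal ρ Z U) {ι : Type*} (x : ι → Γ)
    (hx : ∀ i, x i ∈ 𝐍(F)) (hxU : ∀ i, ∀ u ∈ U, ρ (x i) u ∈ U) (hxx : ∀ i j, x i * x j = x j * x i)
    (hc : ∀ i, (orderOf (x i)).Coprime (Nat.card F)) (hxZ : ∀ i, x i ∈ 𝐂(Z)) (hf : ∀ i, F ⊓ 𝐂[x i] ≤ Z) :
    ∃ U' ≤ U, U' ≠ ⊥ ∧ ∃ h : Inv ρ F U', (∀ i, ∀ u ∈ U', ρ (x i) u ∈ U') ∧
      Heis (sub ρ h) (Z.subgroupOf F) ∧ Schur (sub ρ h) := by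
  obtain ⟨U', hle, h0, h, hI⟩ := exists_irr (Sum.elim (fun g : F => ρ g) fun i => ρ (x i)) hU (by
    rintro (g | i); exacts [hFU g g.2, hxU i])
  have := Submodule.nontrivial_iff_ne_bot.2 h0
  have hi : Inv ρ F U' := fun g hg => h (.inl ⟨g, hg⟩)
  have hi' : ∀ i, ∀ u ∈ U', ρ (x i) u ∈ U' := fun i => h (.inr i)
  have hH : Heis (sub ρ hi) (Z.subgroupOf F) := by
    refine ⟨hk, fun z hz => (hZ z hz).imp fun c hc => LinearMap.ext fun u => Subtype.ext (hc u (hle u.2)),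
      fun y hy => ?_⟩
    obtain ⟨g, hg, hgy⟩ : ∃ g ∈ F, g * y ≠ y * g := by
      by_contra! hl
      exact hy (hFZ ⟨y.2, mem_cent.2 hl⟩)
    obtain ⟨c, hc⟩ := hZ₀ _ (hF (comm_mem_comm hg y.2))
    refine ⟨⟨g, hg⟩, c, fun e => hgy ?_, LinearMap.ext fun u => Subtype.ext ?_⟩
    · rw [← mul_inv_eq_iff_eq_mul, ← mul_inv_eq_one]
      exact hρ (LinearMap.ext fun v => by rw [hc _ trivial, e, map_one, one_smul, End.one_apply])
    · rw [LinearMap.smul_apply, Submodule.coe_smul, sub_apply hi, sub_apply hi, ← hc _ trivial, ← rho_mul]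
      simp
  refine ⟨U', hle, h0, hi, hi', hH, hH.weil (fun i => rs ρ (hi' i)) (fun i => cj (hx i))
    (fun i => isUnit_of_pow (orderOf_pos (x i)).ne' (rs_pow_one _ (pow_orderOf_eq_one _)))
    (fun i => rs_sub _ _ _) (fun i j => rs_comm _ _ (hxx i j))
    (fun i j g => ?_) (fun i g hg => ?_) (fun i => cj_cent _ (hxZ i)) fun c h1 h2 => hI.schur ?_⟩
  · rw [← MulAut.mul_apply, (cj_comm _ _ (hxx i j)).eq, MulAut.mul_apply]
  · refine inv_mem_iff.1 (cj_fix (hx i) (hf i) _ (fix_of_mem (Z := Z.subgroupOf F) (m := orderOf (x i))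
      (by rw [cj_pow]; exact cj_eq_one _ (by rw [pow_orderOf_eq_one]; exact one_mem _)) (hc i) (cj_cent _ (hxZ i)) ?_))
    simpa using inv_mem hg
  · rintro (g | i)
    exacts [h1 g, h2 i]

theorem sq_grp {U : Submodule k W} (hU : U ≠ ⊥) (hFU : Inv ρ F U) (hZ : Scal ρ Z U) :
    ∃ n : ℕ, n ^ 2 = Z.relIndex F := by
  obtain ⟨U', -, h0, h, -, h1, h2⟩ := exists_heis hρ hZ₀ hF hFZ hk hU hFU hZ (ι := Empty) Empty.elim
    (·.elim) (·.elim) (·.elim) (·.elim) (·.elim) (·.elim)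
  have := Submodule.nontrivial_iff_ne_bot.2 h0
  exact ⟨_, h1.sq_eq h2⟩

end Cfsg.Lib.Tur

namespace Cfsg.Lib.Tur

open Module Subgroup Cfsg.Lib.BG Cfsg.Lib.HH Cfsg.Lib.HH.ModB
open scoped Cfsg.Lib.Transfer

variable {k W Γ : Type*} [Field k] [AddCommGroup W] [Module k W] [Group Γ] {ρ : Γ →* End k W}
variable [Finite Γ] [FiniteDimensional k W] [IsAlgClosed k] [Nontrivial W] (hρ : Function.Injective ρ)
  {F Z : Subgroup Γ} (hZ : Scal ρ Z ⊤) (hF : ⁅F, F⁆ ≤ Z) (hFZ : F ⊓ 𝐂(F) ≤ Z) (hk : (Nat.card F : k) ≠ 0)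
  (hne : ¬ F ≤ Z) {a : Γ} {r : ℕ} (hr : r.Prime) (hrk : (r : k) ≠ 0) (ha : a ^ r = 1) (haF : a ∈ 𝐍(F))
  (hf : F ⊓ 𝐂[a] ≤ Z)
include hρ hZ hF hFZ hk hne hr hrk ha haF hf

theorem ec_one_grp (hc : r.Coprime (Nat.card F)) (h0 : ∀ w, ρ a w = w → w = 0) : Z.relIndex F = (r - 1) ^ 2 := by
  have hz := hZ.central hρ ⊤ (mem_top a)
  obtain ⟨U, -, hU, h, h', h1, h2⟩ := exists_heis hρ hZ hF hFZ hk top_ne_bot (fun _ _ _ _ => trivial) hZ
    (fun _ : Unit => a) (fun _ => haF) (fun _ _ _ => trivial) (fun _ _ => rfl)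
    (fun _ => hc.coprime_dvd_left (orderOf_dvd_of_pow_eq_one ha)) (fun _ => hz) fun _ => hf
  have := Submodule.nontrivial_iff_ne_bot.2 hU
  have h3 := h1.ec_one h2 (fun e => hne (subgroupOf_eq_top.1 e)) (A := rs ρ (h' ())) (α := cj haF) hr hrk
    (rs_pow_one _ ha) (by rw [cj_pow]; exact cj_eq_one _ (by rw [ha]; exact one_mem _)) (rs_sub _ _ _) (cj_cent _ hz)
    (cj_fix haF hf) hc fun v hv => Subtype.ext (h0 _ (congrArg Subtype.val hv))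
  rw [relIndex, ← h1.sq_eq h2, ← h3, Nat.add_sub_cancel]

theorem ec_two_grp {d : Γ} {q e : ℕ} (hq : q.Prime) (hqr : q ≠ r) (hdF : d ∈ 𝐍(F)) (had : a * d = d * a)
    (hd : (orderOf d).Coprime (Nat.card F)) (hc : (r * q).Coprime (Nat.card F)) (hQ : d ^ q ^ (e + 1) ∈ 𝐂(F))
    (hf' : F ⊓ 𝐂[d ^ q ^ e] ≤ Z) (h0 : ∀ w, ρ a w = w → ρ d w = w) :
    q ^ (e + 1) = 2 ∧ Z.relIndex F = (2 * r - 1) ^ 2 ∧ ∃ w, w ≠ 0 ∧ ρ a w = w := by
  have hz := fun x => hZ.central hρ ⊤ (mem_top x)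
  obtain ⟨U, -, hU, h, h', h1, h2⟩ := exists_heis hρ hZ hF hFZ hk top_ne_bot (fun _ _ _ _ => trivial) hZ
    (fun b : Bool => cond b a d) (by rintro (_ | _); exacts [hdF, haF]) (fun _ _ _ => trivial)
    (by rintro (_ | _) (_ | _); exacts [rfl, had.symm, had, rfl])
    (by rintro (_ | _); exacts [hd, hc.coprime_mul_right.coprime_dvd_left (orderOf_dvd_of_pow_eq_one ha)])
    (fun _ => hz _) (by rintro (_ | _); exacts [(inf_le_inf_left _ (cent1_le_cent1_pow d _)).trans hf', hf])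
  have := Submodule.nontrivial_iff_ne_bot.2 hU
  have ha' : ∀ u ∈ U, ρ a u ∈ U := h' true
  have hd' : ∀ u ∈ U, ρ d u ∈ U := h' false
  set A : End k U := rs ρ ha' with hA
  set D : End k U := rs ρ hd' with hD
  have e1 : ∀ (i : ℕ) (u : U), ((D ^ i) u : W) = ρ (d ^ i) u := rs_pow hd'
  obtain ⟨κ, hκ⟩ := h2 (D ^ q ^ (e + 1)) fun g => LinearMap.ext fun u => Subtype.ext (by
    rw [End.mul_apply, End.mul_apply, sub_apply, e1, e1, sub_apply, ← rho_mul, ← rho_mul, mem_cent.1 hQ g g.2])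
  have e2 : ∀ v, A v = v → D v = v := fun v hv => Subtype.ext (h0 _ (congrArg Subtype.val hv))
  have key : ∀ c : k, (c • D) ^ q ^ (e + 1) = 1 → (∀ v, A v = v → (c • D) v = v) →
      q ^ (e + 1) = 2 ∧ Z.relIndex F = (2 * r - 1) ^ 2 ∧ ∃ w, w ≠ 0 ∧ ρ a w = w := fun c hc1 hc2 => by
    obtain ⟨h3, h4, v, h5, h6⟩ := h1.ec_two h2 (fun e => hne (subgroupOf_eq_top.1 e)) (A := A) (α := cj haF) hr hrk
      (rs_pow_one _ ha) (by rw [cj_pow]; exact cj_eq_one _ (by rw [ha]; exact one_mem _))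
      (rs_sub _ _ _) (cj_cent _ (hz a))
      (cj_fix haF hf) (δ := cj hdF) hq hqr hc1 (by rw [cj_pow]; exact cj_eq_one _ hQ)
      (Commute.smul_right (rs_comm _ _ had) c)
      (cj_comm _ _ had) hc (fun g => by rw [smul_mul_assoc, mul_smul_comm, rs_sub])
      (cj_cent _ (hz d)) (by rw [cj_pow]; exact cj_fix _ hf') hc2
    exact ⟨h3, by rw [relIndex, ← h1.sq_eq h2, ← h4, Nat.add_sub_cancel], v, fun e => h5 (Subtype.ext e),
      congrArg Subtype.val h6⟩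
  by_cases hv : ∃ v, v ≠ 0 ∧ A v = v
  · obtain ⟨v, h5, h6⟩ := hv
    refine key 1 ?_ (by rwa [one_smul])
    have h7 : (D ^ q ^ (e + 1)) v = v := by
      rw [End.pow_apply]; exact Function.iterate_fixed (e2 v h6) _
    rw [hκ, LinearMap.smul_apply, End.one_apply, ← sub_eq_zero, ← one_smul k v, smul_smul, mul_one, ← sub_smul,
      smul_eq_zero, sub_eq_zero] at h7
    rw [one_smul, hκ, h7.resolve_right h5, one_smul]
  · have h5 : κ ≠ 0 := fun e' => by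
      obtain ⟨v, hv⟩ := exists_ne (0 : U)
      have := e1 (q ^ (e + 1)) v
      rw [hκ, e', zero_smul, eq_comm] at this
      exact hv (Subtype.ext (rho_eq_zero.1 this))
    obtain ⟨c, hc⟩ := IsAlgClosed.exists_pow_nat_eq κ⁻¹ (pow_pos hq.pos (e + 1))
    refine key c (by rw [smul_pow, hc, hκ, inv_smul_smul₀ h5]) fun v h6 => ?_
    rw [show v = 0 from by_contra fun e => hv ⟨v, e, h6⟩, map_zero]

end Cfsg.Lib.Tur
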