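import Cfsg.Agent.Lib.Tur.Slots
import Cfsg.Agent.Lib.HH.ModCrit

/-!
# Modules of groups of symplectic type: the twisted group algebra as a basis of the endomorphisms
-/

set_option autoImplicit false

namespace Cfsg.Lib.Tur

open Module LinearMap Finset Cfsg.Lib.HH.ModB

variable {k V : Type*} [Field k] [AddCommGroup V] [Module k V]
variable {F : Type*} [Group F] {ρ : F →* End k V} {Z : Subgroup F}

/-- `Z` acts by scalars, and every element outside `Z` has a commutator acting as a scalar `≠ 1`. -/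
structure Heis (ρ : F →* End k V) (Z : Subgroup F) : Prop where
  card : (Nat.card F : k) ≠ 0
  scal : ∀ z ∈ Z, ∃ c : k, ρ z = c • 1
  nondeg : ∀ x, x ∉ Z → ∃ g, ∃ c : k, c ≠ 1 ∧ ρ (g * x * g⁻¹) = c • ρ x

/-- The commutant of the representation consists of scalars. -/
def Schur (ρ : F →* End k V) : Prop := ∀ c : End k V, (∀ g, ρ g * c = c * ρ g) → ∃ a : k, c = a • 1

theorem rho_mul_inv (ρ : F →* End k V) (g : F) : ρ g * ρ g⁻¹ = 1 := by rw [← map_mul, mul_inv_cancel, map_one]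

theorem rho_inv_mul (ρ : F →* End k V) (g : F) : ρ g⁻¹ * ρ g = 1 := by rw [← map_mul, inv_mul_cancel, map_one]

namespace Heis

theorem mem_of_eq_one [Nontrivial V] (h : Heis ρ Z) {x : F} (hx : ρ x = 1) : x ∈ Z := by
  by_contra hl
  obtain ⟨g, c, hc, e⟩ := h.nondeg x hl
  rw [map_mul, map_mul, hx, mul_one, rho_mul_inv] at e
  have : (1 - c) • (1 : End k V) = 0 := by rw [sub_smul, one_smul, ← e, sub_self]
  rw [smul_eq_zero, sub_eq_zero] at this
  exact this.elim (fun e => hc e.symm) one_ne_zero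

theorem avg_eq_zero [Fintype F] (h : Heis ρ Z) {x : F} (hx : x ∉ Z) : ∑ g, ρ (g * x * g⁻¹) = 0 := by
  obtain ⟨y, c, hc, e⟩ := h.nondeg x hx
  have h1 : ∑ g, ρ (g * x * g⁻¹) = c • ∑ g, ρ (g * x * g⁻¹) := by
    rw [smul_sum]
    refine (Fintype.sum_equiv (Equiv.mulRight y) _ _ fun g => ?_).symm
    rw [Equiv.coe_mulRight, show g * y * x * (g * y)⁻¹ = g * (y * x * y⁻¹) * g⁻¹ by group,
      map_mul ρ (g * (y * x * y⁻¹)), map_mul ρ g (y * x * y⁻¹), e, map_mul, map_mul, mul_smul_comm, smul_mul_assoc]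
  have : (1 - c) • ∑ g, ρ (g * x * g⁻¹) = 0 := by rw [sub_smul, one_smul, ← h1, sub_self]
  rw [smul_eq_zero, sub_eq_zero] at this
  exact this.resolve_left fun e => hc e.symm

/-- The Weil operator: an operator inducing an automorphism without fixed points on `F / Z` lies in the span of the
group. -/
theorem weil [Finite F] [Nontrivial V] (h : Heis ρ Z) {ι : Type*} (X : ι → End k V) (ξ : ι → MulAut F)
    (hX : ∀ i, IsUnit (X i)) (hc : ∀ i g, X i * ρ g = ρ (ξ i g) * X i) (hXX : ∀ i j, X i * X j = X j * X i)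
    (hξ : ∀ i j g, ξ i (ξ j g) = ξ j (ξ i g)) (hf : ∀ i g, ξ i g * g⁻¹ ∈ Z → g ∈ Z) (hz : ∀ i, ∀ z ∈ Z, ξ i z = z)
    (hI : ∀ c : End k V, (∀ g, ρ g * c = c * ρ g) → (∀ i, X i * c = c * X i) → ∃ a : k, c = a • 1) : Schur ρ := by
  classical
  have := Fintype.ofFinite F
  intro c hc'
  refine hI c hc' fun i => ?_
  obtain ⟨u, hu⟩ := hX i
  set w : End k V := ∑ g, ρ (ξ i g * g⁻¹) with hw
  have h1 : ∀ x, w * ρ x = ρ (ξ i x) * w := fun x => by
    rw [hw, sum_mul, mul_sum]
    refine (Fintype.sum_equiv (Equiv.mulLeft x) _ _ fun g => ?_).symm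
    rw [Equiv.coe_mulLeft, ← map_mul, ← map_mul, map_mul (ξ i)]
    congr 1
    group
  have h2 : ∀ j, X j * w = w * X j := fun j => by
    rw [hw, sum_mul, mul_sum]
    refine Fintype.sum_equiv (ξ j).toEquiv _ _ fun g => ?_
    rw [hc, map_mul (ξ j), map_inv, hξ j i]
    rfl
  have h3 : w * c = c * w := by
    rw [hw, sum_mul, mul_sum]
    exact sum_congr rfl fun g _ => hc' _
  have h4 : ∀ j, X j * ↑u⁻¹ = ↑u⁻¹ * X j := fun j => by
    rw [Units.mul_inv_eq_iff_eq_mul, mul_assoc, hu, hXX, ← hu, Units.inv_mul_cancel_left]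
  obtain ⟨μ, hμ⟩ := hI (↑u⁻¹ * w) (fun g => by
    rw [mul_assoc, h1, ← mul_assoc, ← mul_assoc]
    congr 1
    rw [Units.mul_inv_eq_iff_eq_mul, mul_assoc, hu, ← hc, ← hu, Units.inv_mul_cancel_left]) fun j => by
    rw [← mul_assoc, h4, mul_assoc, h2, mul_assoc]
  rw [Units.inv_mul_eq_iff_eq_mul, mul_smul_comm, mul_one, hu] at hμ
  have h5 : μ ≠ 0 := fun e => by
    rw [e, zero_smul] at hμ
    have h6 : ∑ y, ρ y * w * ρ y⁻¹ = ∑ g, ∑ y, ρ (y * (ξ i g * g⁻¹) * y⁻¹) := by
      rw [sum_comm]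
      refine sum_congr rfl fun y _ => ?_
      rw [hw, mul_sum, sum_mul]
      simp only [map_mul]
    rw [← sum_filter_add_sum_filter_not univ (· ∈ Z) (fun g => ∑ y, ρ (y * (ξ i g * g⁻¹) * y⁻¹)),
      sum_eq_zero (s := univ.filter fun g => ¬ g ∈ Z) fun g hg => h.avg_eq_zero fun e => (mem_filter.1 hg).2 (hf i g e),
      sum_congr (s₁ := univ.filter (· ∈ Z)) rfl (g := fun _ => ∑ y : F, (1 : End k V)) fun g hg => by
        simp [hz i g (mem_filter.1 hg).2]] at h6
    simp only [hμ, mul_zero, zero_mul, sum_const, smul_zero, add_zero, card_univ] at h6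
    rw [← Nat.cast_smul_eq_nsmul k, ← Nat.cast_smul_eq_nsmul k, smul_smul, eq_comm, smul_eq_zero, mul_eq_zero,
      ← Nat.card_eq_fintype_card] at h6
    rcases h6 with (e | e) | e
    · refine h.card ?_
      rw [← Z.card_mul_index, Nat.cast_mul, Nat.card_eq_fintype_card, Fintype.card_subtype, e, zero_mul]
    · exact h.card e
    · exact one_ne_zero e
  rw [hμ, smul_mul_assoc, mul_smul_comm] at h3
  exact smul_right_injective _ h5 h3

variable [FiniteDimensional k V]

theorem trace_zero (h : Heis ρ Z) {x : F} (hx : x ∉ Z) : trace k V (ρ x) = 0 := by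
  obtain ⟨g, c, hc, e⟩ := h.nondeg x hx
  have := congrArg (trace k V) e
  rw [map_mul ρ, trace_mul_comm, map_mul ρ, ← mul_assoc, rho_inv_mul, one_mul, map_smul, smul_eq_mul] at this
  by_contra h0
  exact hc (mul_right_cancel₀ h0 (this.symm.trans (one_mul _).symm))

variable [Finite F] [Nontrivial V] (h : Heis ρ Z) (hS : Schur ρ)
include h hS

theorem finrank_ne : (finrank k V : k) ≠ 0 := fun e => by
  have := Fintype.ofFinite F
  have h1 := fourier ρ hS 1
  rw [e, zero_smul, eq_comm, smul_eq_zero, ← Nat.card_eq_fintype_card] at h1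
  exact h1.elim h.card one_ne_zero

omit [Nontrivial V] in
theorem eq_zero {e : End k V} (he : ∀ g, trace k V (e * ρ g⁻¹) = 0) : e = 0 := by
  have := Fintype.ofFinite F
  have h1 := fourier ρ hS e
  simp only [he, zero_smul, sum_const_zero, smul_zero] at h1
  rw [eq_comm, smul_eq_zero, ← Nat.card_eq_fintype_card] at h1
  exact h1.resolve_left h.card

theorem sq_eq : finrank k V ^ 2 = Z.index := by
  classical
  have := Fintype.ofFinite F
  have := Fintype.ofFinite (F ⧸ Z)
  have h1 : LinearIndependent k fun s : F ⧸ Z => ρ s.out := by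
    rw [Fintype.linearIndependent_iff]
    intro c hc s
    have h2 := congrArg (fun e => trace k V (ρ s.out⁻¹ * e)) hc
    simp only [mul_sum, map_sum, mul_smul_comm, map_smul, mul_zero, map_zero, ← map_mul] at h2
    rw [Finset.sum_eq_single s (fun t _ ht => by
      rw [h.trace_zero fun e => ht ?_, smul_zero]
      rw [← QuotientGroup.eq, QuotientGroup.out_eq', QuotientGroup.out_eq'] at e
      exact e.symm) (by simp), inv_mul_cancel, map_one, trace_one, smul_eq_mul, mul_eq_zero] at h2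
    exact h2.resolve_right (h.finrank_ne hS)
  have h2 : ⊤ ≤ Submodule.span k (Set.range fun s : F ⧸ Z => ρ s.out) := fun e _ => by
    rw [← inv_smul_smul₀ h.card e, Nat.card_eq_fintype_card, ← fourier ρ hS e]
    refine Submodule.smul_mem _ _ (Submodule.smul_mem _ _ (Submodule.sum_mem _ fun g _ => Submodule.smul_mem _ _ ?_))
    obtain ⟨z, hz⟩ := QuotientGroup.mk_out_eq_mul Z g
    obtain ⟨c, hc⟩ := h.scal _ (inv_mem z.2)
    rw [← mul_inv_cancel_right g z, ← hz, map_mul, hc, mul_smul_comm, mul_one]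
    exact Submodule.smul_mem _ _ (Submodule.subset_span ⟨_, rfl⟩)
  rw [sq, ← Module.finrank_linearMap k k V V, finrank_eq_card_basis (Basis.mk h1 h2), Subgroup.index,
    Nat.card_eq_fintype_card]

theorem two_le (hZ : Z ≠ ⊤) : 2 ≤ finrank k V := by
  have h1 := h.sq_eq hS
  have h2 : finrank k V ≠ 0 := fun e => h.finrank_ne hS (by simp [e])
  by_contra hl
  rw [show finrank k V = 1 by omega] at h1
  exact hZ (Subgroup.index_eq_one.1 h1.symm)

/-- The dimension of the commutant is at most the number of orbits on `F / Z`. -/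
theorem cmt_bound {Y : End k V} (hY : IsUnit Y) {ξ : MulAut F} (hc : ∀ g, Y * ρ g = ρ (ξ g) * Y)
    (hz : ∀ z ∈ Z, ξ z = z) {N : ℕ} (hf : ∀ j, 0 < j → j < N → ∀ g, g⁻¹ * (ξ ^ j) g ∈ Z → g ∈ Z) :
    N * finrank k (cmt Y) + 1 ≤ finrank k V ^ 2 + N := by
  classical
  have := Fintype.ofFinite F
  let s : Setoid F := Relation.EqvGen.setoid fun g g' => g' = ξ g ∨ ∃ z ∈ Z, g' = g * z
  have h1 : ∀ e ∈ cmt Y, ∀ g g', s g g' → (trace k V (e * ρ g⁻¹) = 0 ↔ trace k V (e * ρ g'⁻¹) = 0) := by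
    intro e he g g' hg
    induction hg with
    | rel g g' hg =>
      rcases hg with rfl | ⟨z, hz, rfl⟩
      · obtain ⟨u, rfl⟩ := hY
        rw [← map_inv, ← Units.mul_inv_cancel_right (ρ (ξ g⁻¹)) u, ← hc, ← mul_assoc, trace_mul_comm _ (e * _),
          ← mul_assoc e, ← mem_cmt.1 he, mul_assoc, Units.inv_mul_cancel_left]
      · obtain ⟨c, hc⟩ := h.scal _ (inv_mem hz)
        have h0 : c ≠ 0 := fun e => by
          have := rho_inv_mul ρ z
          rw [hc, e, zero_smul, zero_mul] at this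
          exact zero_ne_one this
        rw [mul_inv_rev, map_mul ρ, hc, smul_mul_assoc, one_mul, mul_smul_comm, map_smul, smul_eq_zero]
        simp [h0]
    | refl => rfl
    | symm _ _ _ ih => exact ih.symm
    | trans _ _ _ _ _ ih ih' => exact ih.trans ih'
  let Φ : cmt Y →ₗ[k] (Quotient s → k) := LinearMap.pi fun ω =>
    trace k V ∘ₗ mulRight k (ρ ω.out⁻¹) ∘ₗ (cmt Y).subtype
  have h2 : Function.Injective Φ := by
    rw [injective_iff_map_eq_zero]
    intro e he
    exact Subtype.ext (h.eq_zero hS fun g => (h1 e e.2 _ _ (Quotient.mk_out (s := s) g)).1 (congrFun he ⟦g⟧))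
  have h3 := LinearMap.finrank_le_finrank_of_injective h2
  rw [Module.finrank_fintype_fun_eq_card] at h3
  have h4 : ∀ g, ∀ z ∈ Z, s g (g * z) := fun g z hz => .rel _ _ (.inr ⟨z, hz, rfl⟩)
  have h5 : ∀ (j : ℕ) g, s g ((ξ ^ j) g) := fun j g => by
    induction j with
    | zero => exact s.refl g
    | succ j ih => exact s.trans ih (.rel _ _ (.inl (by rw [pow_succ', MulAut.mul_apply])))
  have h6 : ∀ j : ℕ, ∀ z ∈ Z, (ξ ^ j) z = z := fun j z hz' => by
    induction j with
    | zero => rfl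
    | succ j ih => rw [pow_succ, MulAut.mul_apply, hz z hz', ih]
  have h7 : ∀ g, g ∉ Z → ∀ i j : ℕ, i < j → j < N → ∀ z ∈ Z, ∀ z' ∈ Z, (ξ ^ i) g * z ≠ (ξ ^ j) g * z' := by
    intro g hg i j hij hj z hz z' hz' e
    obtain ⟨l, rfl⟩ := Nat.exists_eq_add_of_lt hij
    have h8 := hf (l + 1) l.succ_pos (by omega) ((ξ ^ i) g) (by
      rw [← MulAut.mul_apply, ← pow_add, show l + 1 + i = i + l + 1 by omega, ← mul_inv_eq_iff_eq_mul.2 e, mul_assoc,
        inv_mul_cancel_left]
      exact mul_mem hz (inv_mem hz'))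
    exact hg ((ξ ^ i).injective (h6 i _ h8) ▸ h8)
  have h8 : ∀ ω ∈ univ.erase (⟦1⟧ : Quotient s), N * Fintype.card Z ≤ #{g | (⟦g⟧ : Quotient s) = ω} := by
    intro ω hω
    have hg : ω.out ∉ Z := fun e => ne_of_mem_erase hω (by
      rw [← Quotient.out_eq ω, ← one_mul ω.out]
      exact (Quotient.sound (h4 1 _ e)).symm)
    rw [← Fintype.card_fin N, ← Fintype.card_prod, ← card_univ]
    refine card_le_card_of_injOn (fun p => (ξ ^ (p.1 : ℕ)) ω.out * p.2) (fun p _ => ?_) fun p _ p' _ e => ?_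
    · refine mem_coe.2 (mem_filter.2 ⟨mem_univ _, ?_⟩)
      rw [← Quotient.out_eq ω, Quotient.out_eq]
      exact (Quotient.sound (s.trans (h5 _ _) (h4 _ _ p.2.2))).symm.trans (Quotient.out_eq ω)
    · have h9 : p.1 = p'.1 := Fin.ext (le_antisymm
        (not_lt.1 fun hl => h7 _ hg _ _ hl p.1.2 _ p'.2.2 _ p.2.2 e.symm)
        (not_lt.1 fun hl => h7 _ hg _ _ hl p'.1.2 _ p.2.2 _ p'.2.2 e))
      simp only [h9, mul_right_inj] at e
      exact Prod.ext h9 (Subtype.ext e)
  have h9 : Fintype.card Z ≤ #{g | (⟦g⟧ : Quotient s) = ⟦1⟧} := by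
    rw [← card_univ]
    refine card_le_card_of_injOn (fun z => (z : F)) (fun z _ => ?_) fun p _ p' _ e => Subtype.ext e
    refine mem_coe.2 (mem_filter.2 ⟨mem_univ _, ?_⟩)
    simpa using (Quotient.sound (h4 1 _ z.2)).symm
  have h10 := card_eq_sum_card_fiberwise (f := fun g : F => (⟦g⟧ : Quotient s)) (s := univ) (t := univ)
    fun _ _ => mem_univ _
  rw [← add_sum_erase _ _ (mem_univ (⟦1⟧ : Quotient s)), card_univ, ← Nat.card_eq_fintype_card, ← Z.card_mul_index,
    ← h.sq_eq hS, Nat.card_eq_fintype_card] at h10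
  have h11 := card_nsmul_le_sum _ _ _ h8
  have h12 : #(univ.erase (⟦1⟧ : Quotient s)) + 1 = Fintype.card (Quotient s) := card_erase_add_one (mem_univ _)
  rw [← h12] at h3
  have h13 : Fintype.card Z * (1 + #(univ.erase (⟦1⟧ : Quotient s)) * N) ≤ Fintype.card Z * finrank k V ^ 2 := by
    rw [h10, mul_add, mul_one]
    refine add_le_add h9 (le_trans (le_of_eq ?_) h11)
    rw [smul_eq_mul]
    ring
  have h14 := Nat.le_of_mul_le_mul_left h13 Fintype.card_pos
  nlinarith [Nat.mul_le_mul_left N h3]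

end Heis

end Cfsg.Lib.Tur
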