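import Cfsg.Agent.Lib.Tur.Tower

/-!
# Turull's theorem for an automorphism of prime order: `h(X) ≤ h(C_X(a)) + 2`
-/

set_option autoImplicit false

namespace Cfsg.Lib.Tur

open Subgroup Cfsg.Lib.BG Cfsg.Lib.HH
open scoped Cfsg.Lib.Transfer

universe u

variable {G : Type u} [Group G]

/-- The iterated commutators of the fixed points of a tower. -/
def bb (P : ℕ → Subgroup G) (a : G) : ℕ → Subgroup G := cm fun i => P i ⊓ 𝐂[a]

theorem le_of_le_conj {V M : Subgroup G} [V.Normal] {g : G} (h : V ≤ g ⋆ M) : V ≤ M := fun x hx => by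
  simpa [mul_assoc] using Transfer.mem_conj.1 (h (conj_mem_of_norm (mem_norm_nml V g) hx))

variable [Finite G] {X : Subgroup G} {a : G} {n r : ℕ} {p : ℕ → ℕ} {P : ℕ → Subgroup G}

omit [Finite G] in
theorem Tw.cent (T : Tw X a n p P) : Tw (X ⊓ 𝐂[a]) a n p fun i => P i ⊓ 𝐂[a] where
  le i := inf_le_inf_right _ (T.le i)
  pr := T.pr
  pg i := pgroup_of_le (T.pg i) inf_le_left
  na i := mem_norm_inf (T.na i) (le_norm _ (self_mem_cent1 a))
  nm i j h := norm_inf (inf_le_left.trans (T.nm i j h)) (le_norm_of_le inf_le_right)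
  ne := T.ne
  top i hi := eq_bot_mono (T.top i hi) inf_le_left

theorem Tw.bb_le_res (T : Tw X a n p P) {i : ℕ} (hi : i ≤ n) : bb P a i ≤ res i (X ⊓ 𝐂[a]) :=
  T.cent.cm_le_res T.cent.le i hi

variable (T : MT X a n p P) (hL : ∀ Y : Subgroup G, a ∈ Y → (∀ i, P i ≤ Y) → Y = ⊤)
  (hr : r.Prime) (ha : a ^ r = 1) (hc : r.Coprime (Nat.card X))
include T

namespace MT

omit [Finite G] in
theorem le_comm {i : ℕ} (hi : i < n) : P (i + 1) ≤ ⁅P (i + 1), P i⁆ := by
  rw [commutator_comm, ← T.cme i hi.le]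
  exact (T.cme _ hi).ge

omit [Finite G] in
theorem bb_eq {i : ℕ} (hi : i ≤ n) (h : ∀ l ≤ i, P l ≤ 𝐂[a]) : bb P a i = P i :=
  (cm_congr i fun j hj => inf_eq_left.2 (h j hj)).trans (T.cme i hi)

variable {Γ : Type*} [Group Γ] {f : G →* Γ} (hf : Function.Surjective f)

omit T [Finite G] in
include hL hf in
theorem normal_of {Y : Subgroup Γ} (h1 : f a ∈ 𝐍(Y)) (h2 : ∀ i, (P i).map f ≤ 𝐍(Y)) : Y.Normal :=
  normal_of_top fun g _ => by
    obtain ⟨x, rfl⟩ := hf g
    exact (hL (𝐍(Y).comap f) h1 fun i => map_le_iff_le_comap.1 (h2 i)).ge trivial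

omit T [Finite G] in
theorem map_mem_norm {Y : Subgroup G} (h : a ∈ 𝐍(Y)) : f a ∈ 𝐍(Y.map f) :=
  map_norm f (zpowers_le.2 h) (mem_map_of_mem f (mem_zpowers a))

omit [Finite G] in
include hL hf in
theorem normal_map {i : ℕ} (h : ∀ j, i < j → P j ≤ f.ker) : ((P i).map f).Normal :=
  normal_of hL hf (map_mem_norm (T.na i)) fun j => (le_or_gt j i).elim (fun e => map_norm f (T.nm j i e))
    fun e => ((Subgroup.map_eq_bot_iff _).2 (h j e)).le.trans bot_le

omit [Finite G] in
theorem min_cent {i m : ℕ} (e : i + 1 + m = n) (hk : ∀ Y ≤ P (i + 1), kill P m (i + 1) Y → Y ≤ f.ker)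
    {H : Subgroup Γ} (hH : H.Normal) (h : H < (P (i + 1)).map f) : (P i).map f ≤ 𝐂(H) := by
  have h1 : (P (i + 1) ⊓ H.comap f).map f = H := by
    refine le_antisymm ((map_mono inf_le_right).trans (map_comap_le _ _)) fun y hy => ?_
    obtain ⟨x, hx, rfl⟩ := h.le hy
    exact ⟨x, ⟨hx, hy⟩, rfl⟩
  have h2 : ∀ l ≤ i, P l ≤ 𝐍(P (i + 1) ⊓ H.comap f) := fun l hl =>
    norm_inf (T.nm _ _ (hl.trans i.le_succ)) (norm_nml _ _)
  rw [← h1, map_le_cent_iff]
  exact hk _ ((comm_le_right (h2 i le_rfl)).trans inf_le_left) (T.minS i m e _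
    (lt_of_le_of_ne inf_le_left fun e => h.ne (by rw [← h1, e])) (mem_norm_inf (T.na _) (mem_norm_nml _ _)) h2)

include hr ha hc

omit hr in
theorem cop_a (i : ℕ) : (Nat.card (zpowers a)).Coprime (Nat.card (P i)) :=
  cop_zpowers ha (hc.coprime_dvd_right (card_dvd (T.le i)))

omit hr ha in
theorem ne_p {i m : ℕ} (e : i + m = n) : r ≠ p i := fun e' => by
  have := Fact.mk (T.pr i)
  refine (T.pr i).one_lt.ne' ((Nat.coprime_self _).1 ((e' ▸ hc).coprime_dvd_right
    ((pgroup_dvd_card (T.pg i) fun e0 => T.nd i m e ?_).trans (card_dvd (T.le i)))))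
  rw [← T.cme i (e ▸ Nat.le_add_right i m), kill_cm, e]
  have : ∀ j, cm P (i + j) = ⊥ := fun j => by
    induction j with
    | zero => exact eq_bot_mono e0 (T.cm_le i)
    | succ j ih => rw [← add_assoc, cm, ih, commutator_bot_left]
  exact e ▸ this m

omit hr in
theorem map_cent_eq (f : G →* Γ) (i : ℕ) : (P i).map f ⊓ 𝐂[f a] = (P i ⊓ 𝐂[a]).map f := by
  have := coprime_map_cent f (zpowers_le.2 (T.na i)) (T.cop_a ha hc i) (.inl (sol_zpowers a))
  rwa [MonoidHom.map_zpowers, cent_zpowers, cent_zpowers] at this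

include hL

theorem claim : ∀ (i m : ℕ), i + m = n → ∀ (Γ : Type u) [Group Γ] [Finite Γ] (f : G →* Γ), Function.Surjective f →
    (∀ j, i < j → P j ≤ f.ker) → (∀ Y ≤ P i, Y ≤ f.ker ↔ kill P m i Y) → ∀ M : Subgroup Γ, ¬ (P i).map f ≤ M →
    (∀ g, ⁅(P i).map f, zpowers (f a)⁆ ≤ g ⋆ M ∨ ∃ j, i = j + 1 ∧ (P i ⊓ res (j - 1) (X ⊓ 𝐂[a])).map f ≤ g ⋆ M ∧
      ⁅(P i).map f, (bb P a j).map f⁆ ≤ g ⋆ M) → ∀ l ≤ i, P l ≤ 𝐂[a]
  | 0, m, e, Γ, _, _, f, hf, _, hk, M, hM, h => fun l hl => by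
    obtain rfl := Nat.le_zero.1 hl
    obtain rfl : m = n := (zero_add m).symm.trans e
    have h1 := (h 1).resolve_right (by simp)
    rw [← MonoidHom.map_zpowers, ← map_commutator, conj_eq_of_mem (one_mem M)] at h1
    have h2 : ∀ Q ≤ P 0, a ∈ 𝐍(Q) → Q ≠ P 0 → Q ≤ f.ker := fun Q h2 h3 h4 =>
      (hk Q h2).2 (T.min0 Q (lt_of_le_of_ne h2 h4) h3)
    by_contra h3
    refine hM (((Subgroup.map_eq_bot_iff _).2 ((coprime_cent_prod (zpowers_le.2 (T.na 0)) (T.cop_a ha hc 0)
      (.inl (sol_zpowers a))).ge.trans (sup_le (h2 _ (comm_le_left (zpowers_le.2 (T.na 0)))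
      (zpowers_le.1 (right_norm_comm _ _)) fun e => hM (e ▸ h1)) ?_))).le.trans bot_le)
    rw [cent_zpowers]
    exact h2 _ inf_le_left (T.cent.na 0) fun e => h3 (e.ge.trans inf_le_right)
  | i + 1, m, e, Γ, _, _, f, hf, hj, hk, M, hM, h => by
    have := Fact.mk (T.pr (i + 1))
    have := T.normal_map hL hf hj
    have hi : i < n := by omega
    have e' : i + (m + 1) = n := by omega
    have hmin := fun H : Subgroup Γ => T.min_cent (H := H) e fun Y hY => (hk Y hY).2
    obtain ⟨N, _, h1, h2, ⟨H, h3, h4, h5⟩, -, h6⟩ := exists_quot ((T.pg (i + 1)).map f) hM hr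
      (show f a ^ r = 1 by rw [← map_pow, ha, map_one]) (T.ne_p hc e)
    set f' := (QuotientGroup.mk' N).comp f with hf'
    have hs' : Function.Surjective f' := (QuotientGroup.mk'_surjective N).comp hf
    have hm : ∀ Y : Subgroup G, (Y.map f).map (QuotientGroup.mk' N) = Y.map f' := fun Y => map_map _ _ _
    have hker : ∀ Y : Subgroup G, Y ≤ f'.ker ↔ Y.map f ≤ N := fun Y => by
      rw [← Subgroup.map_eq_bot_iff, ← hm, Subgroup.map_eq_bot_iff, QuotientGroup.ker_mk']
    have hj' : ∀ j, i < j → P j ≤ f'.ker := fun j hj' => (hker _).2 ((Nat.succ_le_of_lt hj').eq_or_lt.elim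
      (fun e => e ▸ h1) fun e => ((Subgroup.map_eq_bot_iff _).2 (hj j e)).le.trans bot_le)
    have hk' : ∀ Y ≤ P i, Y ≤ f'.ker ↔ kill P (m + 1) i Y := fun Y hY => by
      rw [kill, ← hk _ (comm_le_right (hY.trans (T.nm _ _ i.le_succ))), ← map_le_cent_iff, hker]
      refine ⟨fun e => stable_factor_cent ((commutator_mono le_rfl e).trans h5) ((map_mono hY).trans (hmin H h3 h4))
        ?_, fun e => e.trans h2⟩
      exact ((T.cop hi hY le_rfl).coprime_dvd_left (card_map_dvd _ _)).coprime_dvd_right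
        ((card_dvd h4.le).trans (card_map_dvd _ _))
    have hn' := T.normal_map hL hs' hj'
    have h0 : (P i).map f' ≠ ⊥ := fun e => T.nd i _ e' ((hk' _ le_rfl).1 ((Subgroup.map_eq_bot_iff _).1 e))
    obtain ⟨h7, h8⟩ := h6 (p i) _ (T.pr i) (T.ne i hi) (T.ne_p hc e') hn' ((T.pg i).map f') h0
    have h9 : ∀ g, ⁅(P (i + 1)).map f, zpowers (f a)⁆ ≤ g ⋆ M ∨ ((P (i + 1) ⊓ res (i - 1) (X ⊓ 𝐂[a])).map f ≤ g ⋆ M ∧
        ⁅(P (i + 1)).map f, (bb P a i).map f⁆ ≤ g ⋆ M) := fun g => (h g).imp_right fun ⟨j, e, h⟩ => by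
      obtain rfl : i = j := Nat.succ_injective e
      exact h
    have ih : ∀ l ≤ i, P l ≤ 𝐂[a] := by
      rcases i with _ | j
      · have := Fact.mk (T.pr 0)
        obtain ⟨M', e1, e2⟩ := h7 ((map_le_cent_iff f').2 ((hk' _ (der_le _)).2 (by
          rw [show m + 1 = n by omega]
          refine T.min0 _ (lt_of_le_of_ne (der_le _) fun e => h0 ?_) (mem_norm_comm (T.na 0) (T.na 0))
          rw [le_bot_iff.1 ((le_nilRes le_rfl e.ge).trans (nilRes_eq_bot_iff.2 (pgroup_nil (T.pg 0))).le),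
            Subgroup.map_bot]))) fun g => (h9 g).imp_right fun e => by
          rw [T.map_cent_eq ha hc]
          exact (map_mono (le_inf inf_le_left (T.cent.le _))).trans e.1
        exact claim 0 _ e' _ f' hs' hj' hk' M' e1 fun g => .inl (e2 g)
      have hC : ∀ l, res l (X ⊓ 𝐂[a]) ≤ 𝐂[a] := fun l => (res_le l _).trans inf_le_right
      have hb : ∀ l, bb P a l ≤ P l ⊓ 𝐂[a] := T.cent.cm_le
      have hcb : ∀ l l', l ≤ l' → l ≤ n → ⁅P l' ⊓ 𝐂[a], bb P a l⁆ ≤ P l' ⊓ res l (X ⊓ 𝐂[a]) := fun l l' e1 e2 =>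
        le_inf ((comm_le_left ((hb l).trans (T.cent.nm _ _ e1))).trans inf_le_left)
          ((commutator_mono (T.cent.le l') (T.bb_le_res e2)).trans (comm_le_right (res_nml l _).norm))
      obtain ⟨M', e1, e2⟩ := h8 (p j) ((P j).map f') ((P (j + 1) ⊓ res (j - 1) (X ⊓ 𝐂[a])).map f) ((bb P a j).map f)
        (T.pr j) (T.ne j (by omega)) (T.ne_p hc (show j + (m + 2) = n by omega)).symm ((T.pg j).map f')
        (map_mem_norm (f := f') (T.na j)) (by rw [← map_commutator]; exact map_mono (T.le_comm (by omega)))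
        (map_le_cent1 f (inf_le_right.trans (hC _))) (map_le_cent1 f ((hb j).trans inf_le_right))
        (by rw [hm]; exact map_mono inf_le_left) (by rw [hm]; exact map_mono ((hb j).trans inf_le_left))
        (by
          rw [hm, hm, show QuotientGroup.mk' N (f a) = f' a from rfl, T.map_cent_eq ha hc]
          rcases j with _ | l
          · exact .inl (map_mono (le_inf inf_le_left (T.cent.le _)))
          refine .inr ⟨(bb P a l).map f', map_le_cent1 f' ((hb l).trans inf_le_right),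
            map_norm f' (left_norm_comm _ _), ?_, ?_⟩
          · rw [← map_commutator]
            refine map_mono ?_
            change ⁅bb P a l, P (l + 1) ⊓ 𝐂[a]⁆ ≤ ⁅⁅bb P a l, P (l + 1) ⊓ 𝐂[a]⁆, bb P a l⁆
            rw [commutator_comm (bb P a l)]
            exact (coprime_commGid ((hb l).trans (T.cent.nm _ _ l.le_succ))
              (T.cent.cop (by omega) (hb l) le_rfl)).ge
          · rw [← map_commutator]
            exact map_mono (hcb l _ (by omega) (by omega)))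
        (fun H => T.min_cent (show j + 1 + (m + 1) = n by omega) fun Y hY => (hk' Y hY).2)
        fun g => (h9 g).imp_right fun e => by
          rw [T.map_cent_eq ha hc, ← map_commutator, ← map_commutator]
          refine ⟨(map_mono ?_).trans e.1, (map_mono (hcb j _ (by omega) (by omega))).trans e.1⟩
          have e3 : P (j + 1) ⊓ res (j - 1) (X ⊓ 𝐂[a]) ≤ P (j + 1) ⊓ 𝐂[a] := inf_le_inf_left _ (hC _)
          have e4 := e3.trans (T.cent.nm _ _ (j + 1).le_succ)
          refine le_inf ((comm_le_left e4).trans inf_le_left) (le_trans ?_ (res_anti (show j ≤ j - 1 + 1 by omega) _))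
          exact le_nilRes ((commutator_mono (T.cent.le _) inf_le_right).trans (comm_le_right (res_nml _ _).norm))
            ((coprime_commGid e4 (T.cent.cop hi e3 le_rfl)).ge.trans (commutator_mono le_rfl inf_le_right))
      rw [hm, hm] at e2
      exact claim (j + 1) _ e' _ f' hs' hj' hk' M' e1 fun g => (e2 g).imp_right fun e => ⟨j, rfl, e⟩
    intro l hl
    refine hl.eq_or_lt.elim (fun el => ?_) fun el => ih l (Nat.lt_succ_iff.1 el)
    subst el
    have h10 := (h9 1).resolve_right fun e => hM (by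
      rw [T.bb_eq hi.le ih, conj_eq_of_mem (one_mem M), ← map_commutator] at e
      exact (map_mono (T.le_comm hi)).trans e.2)
    rw [← MonoidHom.map_zpowers, ← map_commutator, conj_eq_of_mem (one_mem M)] at h10
    have h11 : ∀ Q ≤ P (i + 1), a ∈ 𝐍(Q) → (∀ l ≤ i, P l ≤ 𝐍(Q)) → Q ≠ P (i + 1) → ⁅P i, Q⁆ ≤ f.ker :=
      fun Q e1 e2 e3 e4 => (hk _ ((comm_le_right (e3 i le_rfl)).trans e1)).2
        (T.minS i m e Q (lt_of_le_of_ne e1 e4) e2 e3)
    have hA := zpowers_le.2 (T.na (i + 1))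
    have h12 : ⁅P i, ⁅P (i + 1), zpowers a⁆⁆ ≤ f.ker := h11 _ (comm_le_left hA) (zpowers_le.1 (right_norm_comm _ _))
      (fun l hl => norm_comm (T.nm _ _ (hl.trans i.le_succ)) (norm_of_cent (cent_zpowers a ▸ ih l hl)))
      fun e => hM (e ▸ h10)
    have h13 : ⁅P (i + 1), zpowers a⁆ ≤ f.ker := by
      refine (commutator_mono ((T.le_comm hi).trans (commutator_comm _ _).le) le_rfl).trans
        (three_mod (norm_nml _ _) (norm_nml _ _) (norm_nml _ _) ((commutator_comm _ _).le.trans h12) ?_)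
      rw [(comm_eq_bot_iff' (A := zpowers a)).2 (cent_zpowers a ▸ ih i le_rfl), commutator_bot_left]
      exact bot_le
    by_contra h14
    have h15 := h11 _ inf_le_left (T.cent.na _) (fun l hl => norm_inf (T.nm _ _ (hl.trans i.le_succ))
      (le_norm_of_le (ih l hl))) fun e => h14 (e.ge.trans inf_le_right)
    refine hM (((Subgroup.map_eq_bot_iff _).2 ((T.le_comm hi).trans ?_)).le.trans bot_le)
    rw [commutator_comm, ← map_le_cent_iff, ← coprime_cent_prod hA (T.cop_a ha hc _) (.inl (sol_zpowers a)),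
      Subgroup.map_sup, (Subgroup.map_eq_bot_iff _).2 h13, bot_sup_eq, cent_zpowers, map_le_cent_iff]
    exact h15

end MT

end Cfsg.Lib.Tur

namespace Cfsg.Lib.Tur

open Subgroup Cfsg.Lib.BG Cfsg.Lib.HH
open scoped Cfsg.Lib.Transfer

universe u

/-- Turull's theorem for a coprime automorphism of prime order. -/
theorem res_eq_bot {r : ℕ} (hr : r.Prime) (h : ℕ) : ∀ (c : ℕ) (G : Type u) [Group G] [Finite G] (X : Subgroup G)
    [X.Normal] (a : G), Nat.card G = c → a ^ r = 1 → r.Coprime (Nat.card X) → Group.IsSolvable X →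
    res h (X ⊓ 𝐂[a]) = ⊥ → res (h + 2) X = ⊥ := fun c => by
  induction c using Nat.strong_induction_on with
  | _ c ih =>
  intro G _ _ X _ a e ha hc hs h0
  by_contra h1
  obtain ⟨p, P, T, h2, -⟩ := exists_tw ha (h + 2) X G (MonoidHom.id G) (mem_norm_nml X a) hc hs
    (by rwa [Subgroup.map_id]) (by rwa [Subgroup.map_id])
  obtain ⟨P, T⟩ := exists_mt T fun e => h2 (e.le.trans bot_le)
  have h3 : P (h + 2) ≠ ⊥ := T.nd _ 0 rfl
  by_cases hL : ∀ Y : Subgroup G, a ∈ Y → (∀ i, P i ≤ Y) → Y = ⊤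
  · have h4 := T.claim hL hr ha hc (h + 2) 0 rfl G (MonoidHom.id G) Function.surjective_id
      (fun j hj => (T.top j hj).le.trans bot_le) (fun Y _ => le_bot_iff) ⊥ (by rwa [Subgroup.map_id, le_bot_iff])
      fun g => .inr ⟨h + 1, rfl, by simp [h0], by
        rw [eq_bot_mono h0 ((T.bb_le_res (by omega)).trans (res_anti h.le_succ _))]
        simp⟩
    exact h3 (eq_bot_mono h0 ((T.bb_eq le_rfl h4).ge.trans ((T.bb_le_res le_rfl).trans (res_anti (by omega) _))))
  · push Not at hL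
    obtain ⟨L, h4, h5, h6⟩ := hL
    have h7 := ih _ (e ▸ lt_of_le_of_ne (card_le_card_group L) fun e => h6 (eq_top_of_card_eq L e)) L (X.subgroupOf L)
      ⟨a, h4⟩ rfl (Subtype.ext ha) (hc.coprime_dvd_right (card_comap_dvd_of_injective _ _ L.subtype_injective))
      (by
        rw [← inf_subgroupOf_right, sol_subOf_iff inf_le_right]
        exact sol_of_le hs inf_le_left)
      (by
        rw [← res_map_eq_bot_iff L.subtype_injective]
        exact eq_bot_mono h0 (res_mono (le_inf ((map_mono inf_le_left).trans (map_comap_le _ _))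
          (map_le_cent1 L.subtype inf_le_right)) h))
    rw [← inf_subgroupOf_right, res_subOf inf_le_right, subOf_eq_bot_iff ((res_le _ _).trans inf_le_right)] at h7
    exact h3 (eq_bot_mono h7 ((T.cme _ le_rfl).ge.trans (T.cm_le_res (fun i => le_inf (T.le i) (h5 i)) _ le_rfl)))

end Cfsg.Lib.Tur
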