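import Cfsg.Agent.Lib.Tur.Step
import Cfsg.Agent.Lib.PGroup.Basic

/-!
# Turull's theorem: the module spanned by the conjugates of an additive character
-/

set_option autoImplicit false

namespace Cfsg.Lib.Tur

open Module Subgroup Cfsg.Lib.BG Cfsg.Lib.HH Finset
open scoped Cfsg.Lib.Transfer

section Adv

variable (k : Type*) {Γ : Type*} [Field k] [Group Γ]

/-- The conjugation action on functions. -/
def cr : Γ →* End k (Γ → k) where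
  toFun g := LinearMap.funLeft k k fun x => g⁻¹ * x * g
  map_one' := by ext; simp
  map_mul' g h := by ext; simp [mul_assoc]

/-- Additive functions on `V`, extended by zero. -/
def adv (V : Subgroup Γ) : Submodule k (Γ → k) where
  carrier := {f | (∀ x ∈ V, ∀ y ∈ V, f (x * y) = f x + f y) ∧ ∀ x ∉ V, f x = 0}
  add_mem' ha hb := ⟨fun x hx y hy => by simp only [Pi.add_apply, ha.1 x hx y hy, hb.1 x hx y hy]; ring,
    fun x hx => by simp [ha.2 x hx, hb.2 x hx]⟩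
  zero_mem' := ⟨by simp, by simp⟩
  smul_mem' c f hf := ⟨fun x hx y hy => by simp only [Pi.smul_apply, hf.1 x hx y hy, smul_add],
    fun x hx => by simp [hf.2 x hx]⟩

variable {k} {V : Subgroup Γ} {f : Γ → k}

theorem cr_apply (g : Γ) (f : Γ → k) (x : Γ) : cr k g f x = f (g⁻¹ * x * g) := rfl

theorem adv_one (hf : f ∈ adv k V) : f 1 = 0 := by simpa using hf.1 1 V.one_mem 1 V.one_mem

theorem adv_inv (hf : f ∈ adv k V) {x : Γ} (hx : x ∈ V) : f x⁻¹ = -f x := by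
  rw [eq_neg_iff_add_eq_zero, ← hf.1 _ (inv_mem hx) _ hx, inv_mul_cancel, adv_one hf]

/-- The kernel of an additive function. -/
def kr (hf : f ∈ adv k V) : Subgroup Γ where
  carrier := {x | x ∈ V ∧ f x = 0}
  one_mem' := ⟨one_mem _, adv_one hf⟩
  mul_mem' ha hb := ⟨mul_mem ha.1 hb.1, by rw [hf.1 _ ha.1 _ hb.1, ha.2, hb.2, add_zero]⟩
  inv_mem' ha := ⟨inv_mem ha.1, by rw [adv_inv hf ha.1, ha.2, neg_zero]⟩

theorem eq_zero_of_le_kr (hf : f ∈ adv k V) (h : V ≤ kr hf) : f = 0 :=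
  funext fun x => by
    by_cases hx : x ∈ V
    exacts [(h hx).2, hf.2 x hx]

variable [V.Normal]

theorem cr_mem (hf : f ∈ adv k V) (g : Γ) : cr k g f ∈ adv k V :=
  ⟨fun x hx y hy => by
    rw [cr_apply, cr_apply, cr_apply, ← hf.1 _ (conj_mem_of_norm' (mem_norm_nml V g) hx) _
      (conj_mem_of_norm' (mem_norm_nml V g) hy)]
    congr 1
    group,
  fun x hx => hf.2 _ fun e => hx (by simpa [mul_assoc] using conj_mem_of_norm (mem_norm_nml V g) e)⟩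

theorem le_fx_iff (hf : f ∈ adv k V) {Y : Subgroup Γ} : Y ≤ fx (cr k) f ↔ ⁅V, Y⁆ ≤ kr hf := by
  refine ⟨fun h => comm_le_iff.2 fun x hx y hy => ⟨comm_le_left (norm_nml V _) (comm_mem_comm hx hy), ?_⟩,
    fun h y hy => funext fun x => ?_⟩
  · have h1 := congrFun (mem_fx.1 (h (inv_mem hy))) x⁻¹
    rw [cr_apply, inv_inv] at h1
    rw [mul_assoc, mul_assoc, ← mul_assoc y, hf.1 _ hx _ (conj_mem_of_norm (mem_norm_nml V y) (inv_mem hx)), h1,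
      adv_inv hf hx, add_neg_cancel]
  · by_cases hx : x ∈ V
    · have h1 := h (comm_mem_comm (inv_mem hx) (inv_mem hy))
      rw [cr_apply, show y⁻¹ * x * y = x * (x⁻¹ * y⁻¹ * x⁻¹⁻¹ * y⁻¹⁻¹) by group, hf.1 _ hx _ h1.1, h1.2, add_zero]
    · rw [(cr_mem hf y).2 x hx, hf.2 x hx]

theorem nm_mem (hf : f ∈ adv k V) (a : Γ) (r : ℕ) : nm (cr k) a r f ∈ adv k V := by
  rw [nm_apply]
  exact Submodule.sum_mem _ fun i _ => cr_mem hf _

omit [V.Normal] in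
theorem nm_cent (f : Γ → k) {a x : Γ} (r : ℕ) (hx : x ∈ 𝐂[a]) : nm (cr k) a r f x = r * f x := by
  rw [nm_apply, Finset.sum_apply, sum_congr rfl fun i _ => show cr k (a ^ i) f x = f x by
    rw [cr_apply, mul_assoc, mem_cent1.1 (cent1_le_cent1_pow a i hx), inv_mul_cancel_left]]
  simp

variable [Finite Γ] {a : Γ} {r : ℕ} (ha : a ^ r = 1) (hc : r.Coprime (Nat.card V))
include ha hc

theorem eq_zero_of_cent (hf : f ∈ adv k V) (h : cr k a f = f) (h' : ∀ x ∈ V ⊓ 𝐂[a], f x = 0) : f = 0 := by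
  refine eq_zero_of_le_kr hf ((coprime_cent_prod (norm_nml V _) (cop_zpowers ha hc) (.inl (sol_zpowers a))).ge.trans
    (sup_le ((le_fx_iff hf).1 (zpowers_le.2 h)) fun x hx => ⟨hx.1, h' x ?_⟩))
  rwa [← cent_zpowers]

theorem nm_eq_zero (hf : f ∈ adv k V) (h : V ⊓ 𝐂[a] ≤ kr hf) : nm (cr k) a r f = 0 :=
  eq_zero_of_cent ha hc (nm_mem hf a r) (rho_nm ha f) fun x hx => by rw [nm_cent f r hx.2, (h hx).2, mul_zero]

theorem cr_nm (hf : f ∈ adv k V) {d : Γ} (hd : d ∈ 𝐂[a]) (h : ⁅V ⊓ 𝐂[a], zpowers d⁆ ≤ kr hf) :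
    cr k d (nm (cr k) a r f) = nm (cr k) a r f := by
  refine sub_eq_zero.1 (eq_zero_of_cent ha hc (sub_mem (cr_mem (nm_mem hf a r) d) (nm_mem hf a r)) ?_ fun x hx => ?_)
  · rw [map_sub, ← rho_mul, ← mem_cent1.1 hd, rho_mul, rho_nm ha]
  · have h1 := h (comm_mem_comm (inv_mem hx) (inv_mem (mem_zpowers d)))
    rw [Pi.sub_apply, cr_apply, nm_cent f r (mul_mem (mul_mem (inv_mem hd) hx.2) hd), nm_cent f r hx.2,
      show d⁻¹ * x * d = x * (x⁻¹ * d⁻¹ * x⁻¹⁻¹ * d⁻¹⁻¹) by group, hf.1 _ hx.1 _ h1.1, h1.2, add_zero, sub_self]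

omit ha hc [V.Normal] in
theorem exists_adv {p : ℕ} [hp : Fact p.Prime] [Algebra (ZMod p) k] (hV : IsPGroup p V) {M : Subgroup Γ}
    (hM : ¬ V ≤ M) : ∃ f ∈ adv k V, f ≠ 0 ∧ ∀ x ∈ M, f x = 0 := by
  classical
  obtain ⟨L, h1, h2, h3⟩ := PGroup.exists_normal_index_eq_of_ne_top hV (H := M.subgroupOf V)
    (by rwa [Ne, subgroupOf_eq_top])
  let e : V ⧸ L ≃* Multiplicative (ZMod p) := mulEquivOfPrimeCardEq (p := p) h3 (by simp)
  refine ⟨fun x => if hx : x ∈ V then algebraMap (ZMod p) k (e (QuotientGroup.mk ⟨x, hx⟩)).toAdd else 0,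
    ⟨fun x hx y hy => ?_, fun x hx => dif_neg hx⟩, fun h0 => ?_, fun x hx => ?_⟩
  · simp only [dif_pos hx, dif_pos hy, dif_pos (mul_mem hx hy)]
    rw [← map_add, ← toAdd_mul, ← map_mul, ← QuotientGroup.mk_mul]
    rfl
  · obtain ⟨x, hx⟩ := QuotientGroup.mk_surjective (e.symm (Multiplicative.ofAdd 1))
    have := congrFun h0 x
    simp only [dif_pos x.2, Subtype.coe_eta, hx, MulEquiv.apply_symm_apply, toAdd_ofAdd, map_one] at this
    exact one_ne_zero this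
  · by_cases hv : x ∈ V
    · simp only [dif_pos hv]
      rw [(QuotientGroup.eq_one_iff _).2 (h1 (show (⟨x, hv⟩ : V) ∈ M.subgroupOf V from hx)), map_one, toAdd_one,
        map_zero]
    · exact dif_neg hv

end Adv

variable {Γ : Type*} [Group Γ] [Finite Γ] {p r : ℕ} [hp : Fact p.Prime] {V M : Subgroup Γ} [V.Normal] {a : Γ}

/-- The module of the inductive step. -/
theorem exists_mod (k : Type*) [Field k] [Algebra (ZMod p) k] (hV : IsPGroup p V) (hM : ¬ V ≤ M) (ha : a ^ r = 1)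
    (hc : r.Coprime (Nat.card V)) : ∃ (W : Submodule k (Γ → k)) (ρ : Γ →* End k W) (Ω : Γ → W),
      Submodule.span k (Set.range Ω) = ⊤ ∧ (∀ g h, ρ g (Ω h) = Ω (g * h)) ∧ V ≤ ρ.ker ∧ 𝐂(V) ≤ ρ.ker ∧
      (∃ H : Subgroup Γ, H.Normal ∧ H < V ∧ ⁅V, ρ.ker⁆ ≤ H) ∧
      (∀ g, ⁅V, zpowers a⁆ ≤ g ⋆ M → ρ a (Ω g) = Ω g) ∧ (∀ g, V ⊓ 𝐂[a] ≤ g ⋆ M → nm ρ a r (Ω g) = 0) ∧
      ∀ g, ∀ d ∈ 𝐂[a], ⁅V ⊓ 𝐂[a], zpowers d⁆ ≤ g ⋆ M → ρ d (nm ρ a r (Ω g)) = nm ρ a r (Ω g) := by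
  obtain ⟨f, hf, h0, hfM⟩ := exists_adv (k := k) hV hM
  have h1 : Inv (cr k) ⊤ (Submodule.span k (Set.range fun g => cr k g f)) := fun s _ u hu => by
    refine (?_ : Submodule.map (cr k s) _ ≤ _) (Submodule.mem_map_of_mem hu)
    rw [Submodule.map_span, Submodule.span_le]
    rintro _ ⟨_, ⟨g, rfl⟩, rfl⟩
    exact Submodule.subset_span ⟨s * g, rho_mul _ _ _⟩
  let ρ : Γ →* End k (Submodule.span k (Set.range fun g => cr k g f)) :=
    Representation.subrepresentation (cr k) _ fun g u hu => h1 g trivial u hu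
  let Ω : Γ → Submodule.span k (Set.range fun g => cr k g f) := fun g => ⟨cr k g f, Submodule.subset_span ⟨g, rfl⟩⟩
  have h2 : Submodule.span k (Set.range Ω) = ⊤ := by
    refine Submodule.map_injective_of_injective (Submodule.injective_subtype _) ?_
    rw [Submodule.map_span, Submodule.map_subtype_top, ← Set.range_comp]
    rfl
  have h3 : ∀ y, y ∈ ρ.ker ↔ ∀ g, y ∈ fx (cr k) (cr k g f) := fun y =>
    ⟨fun e g => congrArg Subtype.val (LinearMap.congr_fun (MonoidHom.mem_ker.1 e) (Ω g)),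
      fun e => LinearMap.ext_on_range h2 fun g => Subtype.ext (e g)⟩
  have h4 : ∀ u, (nm ρ a r u : Γ → k) = nm (cr k) a r u := fun u => by
    rw [nm_apply, nm_apply, Submodule.coe_sum]
    rfl
  have h5 : ∀ (g : Γ) (X : Subgroup Γ), X ≤ V → X ≤ g ⋆ M → X ≤ kr (cr_mem hf g) := fun g X e e' x hx =>
    ⟨e hx, hfM _ (Transfer.mem_conj.1 (e' hx))⟩
  refine ⟨_, ρ, Ω, h2, fun g h => Subtype.ext (rho_mul (ρ := cr k) g h f).symm, fun y hy => (h3 y).2 fun g => ?_,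
    fun y hy => (h3 y).2 fun g => ?_, ⟨⨅ g, kr (cr_mem hf g), ⟨fun x hx g => mem_iInf.2 fun h => ?_⟩, ?_,
    le_iInf fun g => (le_fx_iff _).1 fun y hy => (h3 y).1 hy g⟩, fun g e => Subtype.ext ?_, fun g e => Subtype.ext ?_,
    fun g d hd e => Subtype.ext ?_⟩
  · refine (le_fx_iff (cr_mem hf g)).2 (comm_le_iff.2 fun x hx y hy => ⟨der_le V (comm_mem_comm hx hy), ?_⟩) hy
    have e := cr_mem hf g
    rw [e.1 _ (mul_mem (mul_mem hx hy) (inv_mem hx)) _ (inv_mem hy), e.1 _ (mul_mem hx hy) _ (inv_mem hx), e.1 _ hx _ hy,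
      adv_inv e hx, adv_inv e hy]
    ring
  · exact (le_fx_iff (cr_mem hf g)).2 ((comm_eq_bot_iff'.2 le_rfl).le.trans bot_le) hy
  · have e := mem_iInf.1 hx (g⁻¹ * h)
    refine ⟨conj_mem_of_norm (mem_norm_nml V g) e.1, Eq.trans ?_ e.2⟩
    rw [cr_apply, cr_apply]
    congr 1
    group
  · refine lt_of_le_of_ne ((iInf_le _ 1).trans fun x hx => hx.1) fun e => h0 ?_
    simpa using eq_zero_of_le_kr (cr_mem hf 1) (e.ge.trans (iInf_le _ 1))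
  · exact zpowers_le.1 ((le_fx_iff (cr_mem hf g)).2 (h5 g _ (comm_le_left (norm_nml V _)) e))
  · rw [h4]
    exact nm_eq_zero ha hc (cr_mem hf g) (h5 g _ inf_le_left e)
  · change cr k d (nm ρ a r (Ω g) : Γ → k) = _
    rw [h4]
    exact cr_nm ha hc (cr_mem hf g) hd (h5 g _ ((commutator_mono inf_le_left le_rfl).trans
      (comm_le_left (norm_nml V _))) e)

theorem map_le_cent1 {G G' : Type*} [Group G] [Group G'] (f : G →* G') {X : Subgroup G} {a : G} (h : X ≤ 𝐂[a]) :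
    X.map f ≤ 𝐂[f a] := by
  rintro _ ⟨x, hx, rfl⟩
  exact mem_cent1.2 (by rw [← map_mul, ← map_mul, mem_cent1.1 (h hx)])

/-- The group theoretic form of the inductive step. -/
theorem exists_quot (hV : IsPGroup p V) (hM : ¬ V ≤ M) (hr : r.Prime) (ha : a ^ r = 1) (hrp : r ≠ p) :
    ∃ (N : Subgroup Γ) (_ : N.Normal), V ≤ N ∧ 𝐂(V) ≤ N ∧ (∃ H : Subgroup Γ, H.Normal ∧ H < V ∧ ⁅V, N⁆ ≤ H) ∧
      ((∀ g, ⁅V, zpowers a⁆ ≤ g ⋆ M) → a ∈ N) ∧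
      ∀ (q : ℕ) (E : Subgroup (Γ ⧸ N)), q.Prime → q ≠ p → r ≠ q → E.Normal → IsPGroup q E → E ≠ ⊥ →
        (E ≤ 𝐂(E) → (∀ g, ⁅V, zpowers a⁆ ≤ g ⋆ M ∨ V ⊓ 𝐂[a] ≤ g ⋆ M) →
          ∃ M' : Subgroup (Γ ⧸ N), ¬ E ≤ M' ∧ ∀ g, ⁅E, zpowers (QuotientGroup.mk' N a)⁆ ≤ g ⋆ M') ∧
        ∀ (s : ℕ) (P : Subgroup (Γ ⧸ N)) (D B : Subgroup Γ), s.Prime → s ≠ q → s ≠ r → IsPGroup s P →
          QuotientGroup.mk' N a ∈ 𝐍(P) → E ≤ ⁅E, P⁆ → D ≤ 𝐂[a] → B ≤ 𝐂[a] → D.map (QuotientGroup.mk' N) ≤ E →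
          B.map (QuotientGroup.mk' N) ≤ P →
          (E ⊓ 𝐂[QuotientGroup.mk' N a] ≤ D.map (QuotientGroup.mk' N) ∨ ∃ B' ≤ 𝐂[QuotientGroup.mk' N a],
            B' ≤ 𝐍(B.map (QuotientGroup.mk' N)) ∧ B.map (QuotientGroup.mk' N) ≤ ⁅B.map (QuotientGroup.mk' N), B'⁆ ∧
            ⁅E ⊓ 𝐂[QuotientGroup.mk' N a], B'⁆ ≤ D.map (QuotientGroup.mk' N)) →
          (∀ H : Subgroup (Γ ⧸ N), H.Normal → H < E → P ≤ 𝐂(H)) →
          (∀ g, ⁅V, zpowers a⁆ ≤ g ⋆ M ∨ (⁅V ⊓ 𝐂[a], D⁆ ≤ g ⋆ M ∧ ⁅V ⊓ 𝐂[a], B⁆ ≤ g ⋆ M)) →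
          ∃ M' : Subgroup (Γ ⧸ N), ¬ E ≤ M' ∧ ∀ g, ⁅E, zpowers (QuotientGroup.mk' N a)⁆ ≤ g ⋆ M' ∨
            (D.map (QuotientGroup.mk' N) ≤ g ⋆ M' ∧ ⁅E, B.map (QuotientGroup.mk' N)⁆ ≤ g ⋆ M') := by
  obtain ⟨W, ρ, Ω, h1, h2, h3, h4, h5, h6, h7, h8⟩ :=
    exists_mod (AlgebraicClosure (ZMod p)) hV hM ha (cop_pgroup hr hV hrp)
  have hk : ∀ q : ℕ, q.Prime → q ≠ p → (q : AlgebraicClosure (ZMod p)) ≠ 0 := fun q hq e e' =>
    e ((Nat.prime_dvd_prime_iff_eq hp.out hq).1 ((CharP.cast_eq_zero_iff _ p q).1 e')).symm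
  set τ := QuotientGroup.lift ρ.ker ρ le_rfl with hτ
  have h9 : ∀ g, ∀ v ∈ Set.range Ω, τ g v ∈ Set.range Ω := by
    rintro ⟨g⟩ _ ⟨h, rfl⟩
    exact ⟨g * h, (h2 g h).symm⟩
  have h10 : nm τ (QuotientGroup.mk' ρ.ker a) r = nm ρ a r := rfl
  have ha' : QuotientGroup.mk' ρ.ker a ^ r = 1 := by rw [← map_pow, ha, map_one]
  refine ⟨ρ.ker, inferInstance, h3, h4, h5, fun h => LinearMap.ext_on_range h1 fun g => h6 g (h g),
    fun q E hq hqp hrq hEn hE hE0 => ⟨fun hab h => ?_, fun s P D B hs hsq hsr hP haP hEP hD hB hD' hB' hx hmin h => ?_⟩⟩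
  · have := Fact.mk hq
    refine step_zero (hk q hq hqp) hr (hk r hr hrp) ha' hrq hE h1 h9 (lift_ker_injective ρ) hE0 hab ?_
    rintro _ ⟨g, rfl⟩
    exact (h g).imp (h6 g) (h7 g)
  · have := Fact.mk hq
    refine step (hk q hq hqp) hr (hk r hr hrp) ha' hrq hE h1 h9 hs hsq hsr hP haP hEP
      (le_inf hD' (map_le_cent1 _ hD)) (le_inf hB' (map_le_cent1 _ hB)) hx ?_ (lift_ker_injective ρ) hE0 hmin
    rintro _ ⟨g, rfl⟩
    refine (h g).imp (h6 g) ?_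
    rintro e _ (⟨d, hd, rfl⟩ | ⟨d, hd, rfl⟩)
    · exact h8 g d (hD hd) ((commutator_mono le_rfl (zpowers_le.2 hd)).trans e.1)
    · exact h8 g d (hB hd) ((commutator_mono le_rfl (zpowers_le.2 hd)).trans e.2)

end Cfsg.Lib.Tur
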