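import Cfsg.Agent.Lib.Tur.Grp
import Cfsg.Agent.Lib.BG.T01_Coprime

/-!
# Vectors whose orbit is covered by two subspaces
-/

set_option autoImplicit false

namespace Cfsg.Lib.Tur

open Module Subgroup Cfsg.Lib.BG Cfsg.Lib.HH Finset
open scoped Cfsg.Lib.Transfer

section Group

variable {G : Type*} [Group G]

theorem three_mod {X Y Z N : Subgroup G} (hX : X ≤ 𝐍(N)) (hY : Y ≤ 𝐍(N)) (hZ : Z ≤ 𝐍(N)) (h1 : ⁅⁅Y, Z⁆, X⁆ ≤ N)
    (h2 : ⁅⁅Z, X⁆, Y⁆ ≤ N) : ⁅⁅X, Y⁆, Z⁆ ≤ N := by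
  rw [← quo_le_cent_iff (comm_le_of_le hX hY) hZ, ← comm_eq_bot_iff, quo_comm hX hY]
  rw [← quo_le_cent_iff (comm_le_of_le hY hZ) hX, ← comm_eq_bot_iff, quo_comm hY hZ] at h1
  rw [← quo_le_cent_iff (comm_le_of_le hZ hX) hY, ← comm_eq_bot_iff, quo_comm hZ hX] at h2
  exact commutator_commutator_eq_bot_of_rotate h1 h2

theorem comm_inf_cent_le [Finite G] {E A N : Subgroup G} (hA : A ≤ 𝐍(E)) (hc : (Nat.card A).Coprime (Nat.card E))
    (hEN : E ≤ 𝐍(N)) (hAN : A ≤ 𝐍(N)) (h : ⁅E, E⁆ ≤ N) : ⁅E, A⁆ ⊓ 𝐂(A) ≤ N := by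
  have h1 := (coprime_abelian_cent_dprod (quo_norm hA N) (coprime_quo hc N) ((quo_abelian_iff hEN).2 h)).inf
  rw [← quo_eq_bot_iff (inf_le_left.trans (comm_le_of_le hEN hAN)), eq_bot_iff, ← h1, ← quo_comm hEN hAN]
  exact le_inf (quo_mono inf_le_left N) (le_inf (quo_mono (inf_le_left.trans (comm_le_left hA)) N)
    (quo_cent inf_le_right N))

theorem comm_le_cent_inf {E T : Subgroup G} (h : T ≤ 𝐂(⁅E, E⁆)) : ⁅E, T⁆ ≤ 𝐂(E ⊓ 𝐂(T)) :=
  comm_eq_bot_iff.1 (commutator_commutator_eq_bot_of_rotate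
    (by rw [comm_eq_bot_iff'.2 inf_le_right, commutator_bot_left])
    (comm_eq_bot_iff'.2 (h.trans (cent_anti (commutator_mono inf_le_left le_rfl)))))

/-- The stabilizer of the coset `N t`. -/
def cst (N : Subgroup G) (t : G) : Subgroup G where
  carrier := {b | b ∈ 𝐍(N) ∧ b * t * b⁻¹ * t⁻¹ ∈ N}
  one_mem' := ⟨one_mem _, by simp⟩
  mul_mem' {b c} hb hc := ⟨mul_mem hb.1 hc.1, by
    convert mul_mem (conj_mem_of_norm hb.1 hc.2) hb.2 using 1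
    group⟩
  inv_mem' {b} hb := ⟨inv_mem hb.1, by
    convert conj_mem_of_norm' hb.1 (inv_mem hb.2) using 1
    group⟩

theorem cop_zpowers {a : G} {r n : ℕ} (ha : a ^ r = 1) (hc : r.Coprime n) : (Nat.card (zpowers a)).Coprime n :=
  Nat.card_zpowers a ▸ hc.coprime_dvd_left (orderOf_dvd_of_pow_eq_one ha)

theorem sol_zpowers (a : G) : Group.IsSolvable (zpowers a) := abelian_sol (abelian_of_cyclic inferInstance)

theorem exists_cent_of_cst [Finite G] {N : Subgroup G} {t a : G} {r : ℕ} (ha : a ^ r = 1)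
    (hc : r.Coprime (Nat.card N)) (h : a ∈ cst N t) : ∃ n ∈ N, n * t ∈ 𝐂[a] := by
  have h1 : zpowers a ≤ cst N t := zpowers_le.2 h
  rw [← cent_zpowers]
  exact Coprime.exists_mul_mem_centralizer' (fun b hb => (h1 hb).1) (cop_zpowers ha hc) (.inl (sol_zpowers a))
    fun b hb => (h1 hb).2

theorem mem_of_pow_mem_prime {S : Subgroup G} {a : G} {r i : ℕ} (hr : r.Prime) (ha : a ^ r = 1) (hi : ¬ r ∣ i)
    (h : a ^ i ∈ S) : a ∈ S := mem_of_pow_mem (hr.coprime_iff_not_dvd.2 hi).symm h ha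

end Group

variable {k W Γ : Type*} [Field k] [AddCommGroup W] [Module k W] [Group Γ] {ρ : Γ →* End k W}

/-- The norm map of the cyclic group generated by `a`. -/
def nm (ρ : Γ →* End k W) (a : Γ) (r : ℕ) : End k W := ∑ i ∈ range r, ρ (a ^ i)

theorem nm_apply (a : Γ) (r : ℕ) (v : W) : nm ρ a r v = ∑ i ∈ range r, ρ (a ^ i) v := LinearMap.sum_apply _ _ _

theorem nm_comm {a : Γ} {Δ : End k W} (h : Δ * ρ a = ρ a * Δ) (r : ℕ) (v : W) : Δ (nm ρ a r v) = nm ρ a r (Δ v) := by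
  rw [nm_apply, nm_apply, map_sum]
  refine sum_congr rfl fun i _ => ?_
  rw [map_pow, ← End.mul_apply, ((show Commute Δ (ρ a) from h).pow_right i).eq, End.mul_apply]

theorem rho_pow_fix {a : Γ} {v : W} (h : ρ a v = v) (i : ℕ) : ρ (a ^ i) v = v := by
  rw [map_pow, End.pow_apply]; exact Function.iterate_fixed h _

theorem nm_fix {a : Γ} {v : W} (h : ρ a v = v) (r : ℕ) : nm ρ a r v = (r : k) • v := by
  rw [nm_apply, sum_congr rfl fun i _ => rho_pow_fix h i, sum_const, card_range, Nat.cast_smul_eq_nsmul]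

theorem rho_nm {a : Γ} {r : ℕ} (ha : a ^ r = 1) (v : W) : ρ a (nm ρ a r v) = nm ρ a r v := by
  have := sum_range_succ' (fun i => ρ (a ^ i) v) r
  rw [sum_range_succ, ha, pow_zero, add_left_inj] at this
  rw [nm_apply, map_sum, this]
  exact sum_congr rfl fun i _ => by rw [← rho_mul, pow_succ']

/-- The stabilizer of a vector. -/
def fx (ρ : Γ →* End k W) (v : W) : Subgroup Γ where
  carrier := {g | ρ g v = v}
  one_mem' := by simp
  mul_mem' {a b} ha hb := by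
    simp only [Set.mem_ofPred_eq] at *
    rw [rho_mul, hb, ha]
  inv_mem' {a} ha := by
    simp only [Set.mem_ofPred_eq] at *
    conv_lhs => rw [← ha, rho_inv_self]

theorem mem_fx {v : W} {g : Γ} : g ∈ fx ρ v ↔ ρ g v = v := Iff.rfl

variable {a : Γ} {r : ℕ} (hr : r.Prime) (ha : a ^ r = 1)
include hr ha

section Blk

variable {N S : Subgroup Γ} {U : Submodule k W} (h : Blk ρ N S U) (haN : a ∈ N) (haS : a ∉ S)
include h haN haS

theorem blk_tail {u : W} (hu : u ∈ U) :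
    nm ρ a r u - u ∈ ⨆ g : {g // g ∈ N ∧ g ∉ S}, U.map (ρ g) := by
  obtain ⟨n, rfl⟩ := Nat.exists_eq_succ_of_ne_zero hr.ne_zero
  rw [nm_apply, sum_range_succ', pow_zero, map_one, End.one_apply, add_sub_cancel_right]
  exact Submodule.sum_mem _ fun i hi => Submodule.mem_iSup_of_mem ⟨a ^ (i + 1), pow_mem haN _, fun e => haS
    (mem_of_pow_mem_prime hr ha (Nat.not_dvd_of_pos_of_lt i.succ_pos (Nat.succ_lt_succ (mem_range.1 hi))) e)⟩
    ⟨u, hu, rfl⟩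

theorem blk_zero {u : W} (hu : u ∈ U) (h0 : nm ρ a r u = 0) : u = 0 :=
  h.indep u hu (by simpa [h0] using blk_tail hr ha h haN haS hu)

theorem blk_move {d : Γ} (hd : d ∈ N) (had : a * d = d * a) {m : ℕ} (hm : d ^ m = 1) (hc : m.Coprime r) {u : W}
    (hu : u ∈ U) (h0 : ρ d (nm ρ a r u) = nm ρ a r u) : ρ d u = u := by
  by_cases h1 : ∃ i, d * a ^ i ∈ S
  · obtain ⟨i, hi⟩ := h1
    have h2 : d ∈ S := by
      by_cases h3 : r ∣ i
      · obtain ⟨j, rfl⟩ := h3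
        rwa [pow_mul, ha, one_pow, mul_one] at hi
      · have h4 := pow_mem hi m
        rw [((show Commute d a from had.symm).pow_right i).mul_pow, hm, one_mul, ← pow_mul] at h4
        exact absurd (mem_of_pow_mem (Nat.Coprime.mul_left (hr.coprime_iff_not_dvd.2 h3).symm hc) h4 ha) haS
    rw [← sub_eq_zero]
    refine blk_zero hr ha h haN haS (sub_mem (h.inv d h2 u hu) hu) ?_
    rw [map_sub, ← nm_comm (by rw [← map_mul, ← map_mul, had]), h0, sub_self]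
  · have h2 : u = 0 := h.indep u hu (by
      rw [← sub_sub_cancel (nm ρ a r u) u]
      refine sub_mem ?_ (blk_tail hr ha h haN haS hu)
      rw [← h0, nm_apply, map_sum]
      exact Submodule.sum_mem _ fun i _ => Submodule.mem_iSup_of_mem ⟨d * a ^ i, mul_mem hd (pow_mem haN _),
        fun e => h1 ⟨i, e⟩⟩ ⟨u, hu, rho_mul _ _ _⟩)
    rw [h2, map_zero]

end Blk

section Key

variable [Finite Γ] {T : Subgroup Γ} (haT : a ∈ 𝐍(T)) (hc : r.Coprime (Nat.card T)) (hZ : T ⊓ 𝐂[a] ≤ 𝐂(T))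
  {v : W} (hv : ρ a v = v)
include haT hc hZ hv

omit hr ha hc hZ [Finite Γ] in
theorem norm_T0 : a ∈ 𝐍((T ⊓ 𝐂[a]) ⊔ (T ⊓ fx ρ v)) :=
  zpowers_le.1 (norm_sup (norm_inf (zpowers_le.2 haT) (le_norm_of_le (zpowers_le.2 (self_mem_cent1 a))))
    (norm_inf (zpowers_le.2 haT) (le_norm_of_le (zpowers_le.2 hv))))

omit hr hZ in
theorem mem_T0 {t : Γ} (ht : t ∈ T) (h : ρ a (ρ t v) = ρ t v) : t ∈ (T ⊓ 𝐂[a]) ⊔ (T ⊓ fx ρ v) := by
  obtain ⟨n, hn, h1⟩ := exists_cent_of_cst (N := T ⊓ fx ρ v) (t := t⁻¹) (a := a⁻¹) (r := r) (by rw [inv_pow, ha, inv_one])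
    (hc.coprime_dvd_right (card_dvd inf_le_left))
    ⟨inv_mem (zpowers_le.1 (norm_inf (zpowers_le.2 haT) (le_norm_of_le (zpowers_le.2 hv)))),
      mem_inf.2 ⟨mul_mem (conj_mem_of_norm (inv_mem haT) (inv_mem ht)) (inv_mem (inv_mem ht)), by
        rw [inv_inv, inv_inv, mem_fx, rho_mul, rho_mul, rho_mul, h, rho_inv_self]
        exact inv_mem (show a ∈ fx ρ v from hv)⟩⟩
  rw [cent1_inv] at h1
  rw [show t = (n * t⁻¹)⁻¹ * n by group]
  exact mul_mem_sup (inv_mem (mem_inf.2 ⟨mul_mem (mem_inf.1 hn).1 (inv_mem ht), h1⟩)) hn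

omit hr hZ in
theorem mem_T0_of_cst {t : Γ} (ht : t ∈ T) (h : a ∈ cst ((T ⊓ 𝐂[a]) ⊔ (T ⊓ fx ρ v)) t⁻¹) :
    t ∈ (T ⊓ 𝐂[a]) ⊔ (T ⊓ fx ρ v) := by
  have hle : (T ⊓ 𝐂[a]) ⊔ (T ⊓ fx ρ v) ≤ T := sup_le inf_le_left inf_le_left
  obtain ⟨n, hn, h1⟩ := exists_cent_of_cst ha (hc.coprime_dvd_right (card_dvd hle)) h
  rw [show t = (n * t⁻¹)⁻¹ * n by group]
  exact mul_mem (mem_sup_left (inv_mem (mem_inf.2 ⟨mul_mem (hle hn) (inv_mem ht), h1⟩))) hn

omit hr ha hc [Finite Γ] in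
theorem le_fx_of_le_T0 (hT : T ≤ ⁅T, zpowers a⁆) (h : T ≤ (T ⊓ 𝐂[a]) ⊔ (T ⊓ fx ρ v)) : T ≤ fx ρ v := by
  refine hT.trans ((Coprime.commutator_le_of_subset_mul_centralizer (P := T ⊓ fx ρ v) fun t ht => ?_).trans
    ((comm_le_left (norm_inf (zpowers_le.2 haT) (le_norm_of_le (zpowers_le.2 hv)))).trans inf_le_right))
  obtain ⟨y, hy, n, hn, rfl⟩ := (mem_sup_right_norm (norm_of_cent (inf_le_left.trans (cent_symm hZ)))).1
    (sup_comm (T ⊓ 𝐂[a]) _ ▸ h ht)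
  exact ⟨y, hy, by rw [inv_mul_cancel_left, cent_zpowers]; exact hn.2⟩

omit hr ha haT hc hZ [Finite Γ] in
theorem nm_nm (s t : Γ) : nm ρ a r (ρ s (nm ρ a r (ρ t v))) =
    ∑ i ∈ range r, nm ρ a r (ρ (s * (a ^ i * t * (a ^ i)⁻¹)) v) := by
  rw [nm_apply _ _ (ρ t v), map_sum, map_sum]
  refine sum_congr rfl fun i _ => ?_
  rw [rho_mul, rho_mul, rho_mul, show ρ (a ^ i)⁻¹ v = v from inv_mem (pow_mem (show a ∈ fx ρ v from hv) i)]

variable (hrk : (r : k) ≠ 0) {Δ : End k W}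
  (hO : ∀ t ∈ T, ρ a (ρ t v) = ρ t v ∨ Δ (nm ρ a r (ρ t v)) = nm ρ a r (ρ t v))
include hrk hO

omit hZ in
theorem key_fix {t : Γ} (ht : t ∈ T) (h0 : t ∉ (T ⊓ 𝐂[a]) ⊔ (T ⊓ fx ρ v))
    (h : Δ (nm ρ a r (ρ t⁻¹ (nm ρ a r (ρ t v)))) = nm ρ a r (ρ t⁻¹ (nm ρ a r (ρ t v)))) : Δ v = v := by
  obtain ⟨n, rfl⟩ := Nat.exists_eq_succ_of_ne_zero hr.ne_zero
  rw [nm_nm hv, sum_range_succ', map_add, map_sum, sum_congr rfl fun i hi => ?_, add_right_inj] at h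
  · simp only [pow_zero, one_mul, inv_one, mul_one, inv_mul_cancel, map_one, End.one_apply, nm_fix hv,
      map_smul] at h
    exact smul_right_injective _ hrk h
  · have h1 := mul_mem (inv_mem ht) (conj_mem_of_norm (pow_mem haT (i + 1)) ht)
    refine (hO _ h1).resolve_left fun e => h0 (mem_T0_of_cst ha haT hc hv ht (mem_of_pow_mem_prime hr ha
      (Nat.not_dvd_of_pos_of_lt i.succ_pos (Nat.succ_lt_succ (mem_range.1 hi))) ⟨pow_mem (norm_T0 haT hv) _, ?_⟩))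
    convert inv_mem (mem_T0 ha haT hc hv h1 e) using 1
    rw [Nat.succ_eq_add_one]
    group

theorem key_comm (hT : T ≤ ⁅T, zpowers a⁆) (hΔ : Δ * ρ a = ρ a * Δ)
    (h : ∀ t ∈ T, Δ (ρ t⁻¹ (nm ρ a r (ρ t v))) = ρ t⁻¹ (Δ (nm ρ a r (ρ t v)))) : Δ v = v ∨ T ≤ fx ρ v := by
  by_cases h1 : T ≤ (T ⊓ 𝐂[a]) ⊔ (T ⊓ fx ρ v)
  · exact .inr (le_fx_of_le_T0 haT hZ hv hT h1)
  obtain ⟨t, ht, h0⟩ := SetLike.not_le_iff_exists.1 h1
  refine .inl (key_fix hr ha haT hc hv hrk hO ht h0 ?_)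
  rw [nm_comm hΔ, h t ht, (hO t ht).resolve_left fun e => h0 (mem_T0 ha haT hc hv ht e)]

end Key

theorem key_cop [Finite Γ] {T : Subgroup Γ} (haT : a ∈ 𝐍(T)) (hc : r.Coprime (Nat.card T)) (hZ : T ⊓ 𝐂[a] ≤ 𝐂(T))
    {v : W} (hv : ρ a v = v) (hrk : (r : k) ≠ 0) (hT : T ≤ ⁅T, zpowers a⁆) {d : Γ} (hd : d ∈ 𝐍(T))
    (had : a * d = d * a) {m : ℕ} (hm : d ^ m = 1) (hmr : m.Coprime r) (hmT : m.Coprime (Nat.card T))
    (hO : ∀ t ∈ T, ρ a (ρ t v) = ρ t v ∨ ρ d (nm ρ a r (ρ t v)) = nm ρ a r (ρ t v)) : ρ d v = v ∨ T ≤ fx ρ v := by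
  set T₀ := (T ⊓ 𝐂[a]) ⊔ (T ⊓ fx ρ v) with hT₀
  by_cases h1 : T ≤ T₀
  · exact .inr (le_fx_of_le_T0 haT hZ hv hT h1)
  refine .inl (by_contra fun h2 => h1 ?_)
  have hle : T₀ ≤ T := sup_le inf_le_left inf_le_left
  have hΔ : ρ d * ρ a = ρ a * ρ d := by rw [← map_mul, ← map_mul, had]
  have hn := norm_T0 haT hv
  have h3 : ∀ t ∈ T, t ∉ T₀ → ∃ i : ℕ, d * t⁻¹ * d⁻¹ * (a ^ i * t * (a ^ i)⁻¹) ∈ T₀ := fun t ht h0 => by
    by_contra! hl
    have h4 := (hO t ht).resolve_left fun e => h0 (mem_T0 ha haT hc hv ht e)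
    have h5 : ρ d (nm ρ a r (ρ t⁻¹ (nm ρ a r (ρ t v)))) = nm ρ a r (ρ (d * t⁻¹ * d⁻¹) (nm ρ a r (ρ t v))) := by
      rw [nm_comm hΔ, rho_mul, rho_mul, show ρ d⁻¹ (nm ρ a r (ρ t v)) = _ from inv_mem (show d ∈ fx ρ _ from h4)]
    refine h2 (key_fix hr ha haT hc hv hrk hO ht h0 ?_)
    rw [← rho_inv_self (ρ := ρ) d (ρ d _), h5, nm_nm hv, map_sum (ρ d), sum_congr rfl fun i _ => ?_, ← nm_nm hv, ← h5,
      rho_inv_self]
    have h6 := mul_mem (conj_mem_of_norm hd (inv_mem ht)) (conj_mem_of_norm (pow_mem haT i) ht)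
    exact (hO _ h6).resolve_left fun e => hl i (mem_T0 ha haT hc hv h6 e)
  have h4 : ∀ j : ℕ, ∀ t ∈ T, t ∉ T₀ → d ^ j * t * (d ^ j)⁻¹ ∉ T₀ := fun j => by
    induction j with
    | zero => simp
    | succ j ih =>
      intro t ht h0 e
      obtain ⟨i, hi⟩ := h3 t ht h0
      refine ih _ (conj_mem_of_norm hd ht) (fun e' => h0 ?_) (by convert e using 1; rw [pow_succ]; group)
      convert conj_mem_of_norm' (pow_mem hn i) (mul_mem e' hi) using 1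
      group
  have hm0 : m ≠ 0 := fun e => by
    rw [e, Nat.coprime_zero_left] at hmr
    exact hr.one_lt.ne' hmr
  have h5 : d ∈ 𝐍(T₀) := zpowers_le.1 (le_norm_iff.2 fun b hb t ht => by_contra fun e => by
    obtain ⟨j, hj⟩ := (mem_powers_iff_mem_zpowers.2 (inv_mem hb) : b⁻¹ ∈ Submonoid.powers d)
    refine h4 j _ (conj_mem_of_norm (zpowers_le.2 hd hb) (hle ht)) e ?_
    simp only at hj
    rw [hj]
    convert ht using 1
    group)
  have h6 : ⁅T, zpowers d⁆ ≤ T₀ := by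
    rw [commutator_comm]
    refine comm_le_iff.2 fun b hb t ht => ?_
    refine (zpowers_le.2 (show d ∈ cst T₀ t from ?_) hb).2
    by_cases h0 : t ∈ T₀
    · exact ⟨h5, mul_mem (conj_mem_of_norm h5 h0) (inv_mem h0)⟩
    obtain ⟨i, hi⟩ := h3 t⁻¹ (inv_mem ht) (by rwa [inv_mem_iff])
    have h7 : (a ^ i)⁻¹ * d ∈ cst T₀ t := ⟨mul_mem (inv_mem (pow_mem hn i)) h5, by
      convert conj_mem_of_norm' (pow_mem hn i) hi using 1
      group⟩
    by_cases h8 : r ∣ i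
    · obtain ⟨j, rfl⟩ := h8
      rwa [pow_mul, ha, one_pow, inv_one, one_mul] at h7
    have h9 := inv_mem (pow_mem h7 m)
    rw [((show Commute a d from had).pow_left i).inv_left.mul_pow, hm, mul_one, inv_pow, inv_inv, ← pow_mul] at h9
    exact absurd (inv_mem_iff.1 (mem_T0_of_cst ha haT hc hv (inv_mem ht) (by
      rw [inv_inv]
      exact mem_of_pow_mem (Nat.Coprime.mul_left (hr.coprime_iff_not_dvd.2 h8).symm hmr) h9 ha))) h0
  rw [← coprime_cent_prod (zpowers_le.2 hd) (cop_zpowers hm hmT) (.inl (sol_zpowers d))]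
  refine sup_le h6 fun t ht => by_contra fun h0 => h2 (key_fix hr ha haT hc hv hrk hO ht.1 h0 ?_)
  rw [nm_comm hΔ, ← rho_mul, mem_cent.1 (inv_mem ht.2) d (mem_zpowers d), rho_mul,
    (hO t ht.1).resolve_left fun e => h0 (mem_T0 ha haT hc hv ht.1 e)]

omit hr in
/-- From the orbit to the whole module. -/
theorem fix_of_span {T : Subgroup Γ} [Fintype T] (haT : a ∈ 𝐍(T)) (hk : (Nat.card T : k) ≠ 0) {Ω : Set W}
    (hΩ : Submodule.span k Ω = ⊤) {Δ : End k W} (hΔ : ∀ w, Δ (∑ t : T, ρ t w) = ∑ t : T, ρ t (Δ w))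
    (h : ∀ v ∈ Ω, Δ (nm ρ a r v) = nm ρ a r v ∨ T ≤ fx ρ v) {w : W} (hw : ∑ t : T, ρ t w = 0) :
    Δ (nm ρ a r w) = nm ρ a r w := by
  have h1 : ∀ w, ∑ t : T, ρ t (nm ρ a r w) = nm ρ a r (∑ t : T, ρ t w) := fun w => by
    rw [← LinearMap.sum_apply, ← LinearMap.sum_apply]
    refine nm_comm ?_ r w
    rw [sum_mul, mul_sum]
    exact (Fintype.sum_equiv (cj haT).toEquiv _ _ fun t => by
      rw [← map_mul, ← map_mul, MulEquiv.toEquiv_eq_coe, EquivLike.coe_coe, cj_apply, inv_mul_cancel_right]).symm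
  have h2 : ∀ w ∈ Submodule.span k Ω, Δ (nm ρ a r ((Nat.card T : k) • w - ∑ t : T, ρ t w)) =
      nm ρ a r ((Nat.card T : k) • w - ∑ t : T, ρ t w) := fun w hw => by
    induction hw using Submodule.span_induction with
    | mem v hv =>
      rcases h v hv with e | e
      · rw [map_sub, map_sub, map_smul, map_smul, e, ← h1, hΔ, e]
      · rw [sum_congr rfl fun t _ => mem_fx.1 (e t.2), sum_const, card_univ, Nat.card_eq_fintype_card,
          Nat.cast_smul_eq_nsmul, sub_self, map_zero, map_zero]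
    | zero => simp
    | add x y _ _ hx hy =>
      simp only [map_add, smul_add, sum_add_distrib, add_sub_add_comm, hx, hy]
    | smul c x _ hx =>
      simp only [map_smul, ← smul_sum, smul_comm _ c, ← smul_sub, hx]
  have h3 := h2 w (hΩ ▸ trivial)
  rw [hw, sub_zero, map_smul, map_smul] at h3
  exact smul_right_injective _ hk h3

end Cfsg.Lib.Tur
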