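import Mathlib

/-!
# Eigenspaces of an operator of finite order and the dimension of its commutant
-/

set_option autoImplicit false

namespace Cfsg.Lib.Tur

open Module LinearMap Finset

theorem slots_arith {n z t s : ℕ} (hn : 2 ≤ n) (hz : 1 ≤ z) (h1 : n ^ 2 ≤ t * s) (h2 : n ≤ s)
    (h3 : (z + t) * s + 1 ≤ n ^ 2 + (z + t)) : z + t = n + 1 ∧ z = 1 ∧ s ≤ n := by
  have e1 : z * n ^ 2 + t ≤ t * (z + t) := by nlinarith [Nat.mul_le_mul_left (z + t) h1, Nat.mul_le_mul_left t h3]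
  have e2 : n + 1 ≤ z + t := by
    by_contra hl
    have : z + t ≤ n := by omega
    have : t + 1 ≤ n := by omega
    nlinarith [Nat.mul_le_mul this ‹z + t ≤ n›, Nat.mul_le_mul_right (n ^ 2) hz]
  have e3 : z + t ≤ n + 1 := by
    by_contra hl
    obtain ⟨m, rfl⟩ := Nat.exists_eq_add_of_le hn
    obtain ⟨u, hu⟩ := Nat.exists_eq_add_of_le (show 2 + m + 2 ≤ z + t by omega)
    rw [hu] at h3
    nlinarith [Nat.mul_le_mul_left (2 + m + 2 + u) h2]
  have e4 : z + t = n + 1 := le_antisymm e3 e2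
  rw [e4] at e1 h3
  refine ⟨e4, ?_, by nlinarith⟩
  by_contra hl
  have : 2 ≤ z := by omega
  have : t + 1 ≤ n := by omega
  nlinarith [Nat.mul_le_mul_right (n ^ 2) ‹2 ≤ z›, Nat.mul_le_mul_right (n + 1) this]

theorem slots_main {ι : Type*} [Fintype ι] [DecidableEq ι] (m : ι → ℕ) {n : ℕ} (hn : 2 ≤ n) (h1 : ∑ i, m i = n)
    (h2 : Fintype.card ι * ∑ i, m i ^ 2 + 1 ≤ n ^ 2 + Fintype.card ι) {S : Finset ι} (hS : ∀ i ∈ S, m i = 0)
    (h0 : S.Nonempty) : Fintype.card ι = n + 1 ∧ #S = 1 ∧ ∀ i, m i ≤ 1 := by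
  have e1 : ∑ i ∈ Sᶜ, m i = n := by
    rw [← h1, ← sum_add_sum_compl S, sum_eq_zero hS, zero_add]
  have e2 : ∑ i ∈ Sᶜ, m i ^ 2 ≤ ∑ i, m i ^ 2 := sum_le_sum_of_subset (subset_univ _)
  have e3 := sq_sum_le_card_mul_sum_sq (s := Sᶜ) (f := m)
  have e4 : ∀ i ∈ univ, m i ≤ m i ^ 2 := fun i _ => Nat.le_self_pow two_ne_zero _
  have e5 : #S + #Sᶜ = Fintype.card ι := card_add_card_compl S
  rw [e1] at e3
  obtain ⟨a, b, c⟩ := slots_arith hn (card_pos.2 h0) (e3.trans (Nat.mul_le_mul_left _ e2)) (h1 ▸ sum_le_sum e4)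
    (e5 ▸ h2)
  refine ⟨e5 ▸ a, b, fun i => by_contra fun hl => ?_⟩
  have := sum_lt_sum e4 ⟨i, mem_univ _, by nlinarith⟩
  omega

theorem slots_two {ι : Type*} [Fintype ι] [DecidableEq ι] (m : ι → ℕ) {n q : ℕ} (hn : 2 ≤ n) (hq : 2 ≤ q)
    (h1 : ∑ i, m i = n) (h2 : Fintype.card ι * ∑ i, m i ^ 2 + 1 ≤ n ^ 2 + Fintype.card ι) {i₀ : ι} (h0 : m i₀ = 1)
    (h : ∀ i, i ≠ i₀ → q ∣ m i) : n + 1 = 2 * Fintype.card ι ∧ q = 2 ∧ ∀ i, m i ≤ 2 := by
  have e1 := add_sum_erase univ m (mem_univ i₀)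
  have e2 := add_sum_erase univ (fun i => m i ^ 2) (mem_univ i₀)
  have e3 := sq_sum_le_card_mul_sum_sq (s := univ.erase i₀) (f := m)
  have e5 : #(univ.erase i₀) + 1 = Fintype.card ι := card_erase_add_one (mem_univ _)
  have e6 : ∀ i ∈ univ.erase i₀, 2 ≤ m i := fun i hi => by
    refine hq.trans (Nat.le_of_dvd (Nat.pos_of_ne_zero fun e => ?_) (h i (ne_of_mem_erase hi)))
    obtain ⟨-, -, c⟩ := slots_main m hn h1 h2 (S := {i}) (by simpa using e) (singleton_nonempty _)
    have : ∑ j ∈ univ.erase i₀, m j = 0 := sum_eq_zero fun j hj =>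
      Nat.eq_zero_of_dvd_of_lt (h j (ne_of_mem_erase hj)) (by have := c j; omega)
    omega
  have e7 : #(univ.erase i₀) * 2 ≤ ∑ i ∈ univ.erase i₀, m i := by
    simpa using card_nsmul_le_sum _ _ _ e6
  have e8 : ∑ i ∈ univ.erase i₀, m i ≤ #(univ.erase i₀) * 2 := by
    simp only [h0] at e1 e2
    rw [← e2, ← e5, ← h1, ← e1] at h2
    generalize ∑ i ∈ univ.erase i₀, m i = a at *
    generalize ∑ i ∈ univ.erase i₀, m i ^ 2 = s at *
    generalize #(univ.erase i₀) = t at *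
    by_contra hl
    have e9 : (t + 1) * a ^ 2 ≤ t * (a ^ 2 + 2 * a) := by nlinarith [Nat.mul_le_mul_left (t + 1) e3]
    nlinarith
  have e9 : ∀ i, m i ≤ 2 := fun i => by
    by_cases hi : i = i₀
    · rw [hi, h0]; omega
    by_contra hl
    have := sum_lt_sum e6 ⟨i, mem_erase.2 ⟨hi, mem_univ _⟩, by omega⟩
    simp only [sum_const, smul_eq_mul] at this
    omega
  obtain ⟨i, hi⟩ := (card_pos (s := univ.erase i₀)).1 (by omega)
  have := Nat.le_of_dvd (by have := e6 i hi; omega) (h i (ne_of_mem_erase hi))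
  have := e9 i
  exact ⟨by omega, by omega, e9⟩

variable {k V : Type*} [Field k] [AddCommGroup V] [Module k V]

/-- The commutant of an operator. -/
def cmt (A : End k V) : Submodule k (End k V) where
  carrier := {e | A * e = e * A}
  add_mem' ha hb := by
    simp only [Set.mem_ofPred_eq] at *
    rw [mul_add, add_mul, ha, hb]
  zero_mem' := by simp
  smul_mem' c e he := by
    simp only [Set.mem_ofPred_eq] at *
    rw [mul_smul_comm, smul_mul_assoc, he]

theorem mem_cmt {A e : End k V} : e ∈ cmt A ↔ A * e = e * A := Iff.rfl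

/-- The projection onto the eigenspace of `ζ ^ i`. -/
noncomputable def prj (A : End k V) (N : ℕ) (c : k) : End k V := (N : k)⁻¹ • ∑ j ∈ range N, (c⁻¹ • A) ^ j

theorem prj_comm {A X : End k V} (h : A * X = X * A) (N : ℕ) (c : k) : prj A N c * X = X * prj A N c := by
  rw [prj, smul_mul_assoc, mul_smul_comm, sum_mul, mul_sum]
  congr 1
  exact sum_congr rfl fun j _ => (((show Commute A X from h).smul_left _).pow_left j).eq

theorem geom_zero {x : k} {N : ℕ} (h : x ^ N = 1) (h1 : x ≠ 1) : ∑ j ∈ range N, x ^ j = 0 := by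
  have := geom_sum_mul x N
  rw [h, sub_self, mul_eq_zero, sub_eq_zero] at this
  exact this.resolve_right h1

theorem prj_apply {A : End k V} {N : ℕ} {c c' : k} {v : V} (hv : A v = c' • v) :
    prj A N c v = ((N : k)⁻¹ * ∑ j ∈ range N, (c⁻¹ * c') ^ j) • v := by
  have : ∀ j : ℕ, ((c⁻¹ • A) ^ j) v = (c⁻¹ * c') ^ j • v := fun j => by
    induction j with
    | zero => simp
    | succ j ih =>
      rw [pow_succ, End.mul_apply, LinearMap.smul_apply, hv, smul_smul, map_smul, ih, smul_smul, pow_succ']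
  rw [prj, LinearMap.smul_apply, LinearMap.sum_apply, mul_smul, sum_smul]
  simp only [this]

theorem prj_self {A : End k V} {N : ℕ} (hN : (N : k) ≠ 0) {c : k} (hc : c ≠ 0) {v : V} (hv : A v = c • v) :
    prj A N c v = v := by
  rw [prj_apply hv, inv_mul_cancel₀ hc]
  simp [hN]

theorem prj_ne {A : End k V} {N : ℕ} (hN : N ≠ 0) {c c' : k} (hc : c ^ N = 1) (hc' : c' ^ N = 1) (h : c ≠ c') {v : V}
    (hv : A v = c' • v) : prj A N c v = 0 := by
  have h0 : c ≠ 0 := fun e => by simp [e, hN] at hc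
  rw [prj_apply hv, geom_zero (by rw [mul_pow, inv_pow, hc, hc', inv_one, one_mul]) fun e => h ?_, mul_zero,
    zero_smul]
  rwa [inv_mul_eq_one₀ h0] at e

theorem prj_mem {A : End k V} {N : ℕ} (hN : N ≠ 0) (hA : A ^ N = 1) {c : k} (hc : c ^ N = 1) (v : V) :
    A (prj A N c v) = c • prj A N c v := by
  have h0 : c ≠ 0 := fun e => by simp [e, hN] at hc
  have h1 := mul_geom_sum (c⁻¹ • A) N
  rw [smul_pow, inv_pow, hc, hA, inv_one, one_smul, sub_self, sub_mul, one_mul, sub_eq_zero, smul_mul_assoc,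
    inv_smul_eq_iff₀ h0] at h1
  rw [← End.mul_apply, prj, mul_smul_comm, h1, smul_comm]
  rfl

variable {A : End k V} {N : ℕ} {ζ : k}

theorem sum_prj (hN : (N : k) ≠ 0) (hζ : IsPrimitiveRoot ζ N) : ∑ i : Fin N, prj A N (ζ ^ (i : ℕ)) = 1 := by
  have h0 : N ≠ 0 := fun e => hN (by simp [e])
  simp only [prj]
  rw [← smul_sum, sum_comm, Finset.sum_eq_single 0]
  · simp [← Nat.cast_smul_eq_nsmul k, smul_smul, hN]
  · intro j hj hj0
    simp only [smul_pow]
    rw [← sum_smul, Fin.sum_univ_eq_sum_range (fun i => ((ζ ^ i)⁻¹) ^ j) N]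
    simp only [← inv_pow, ← pow_mul, mul_comm _ j]
    simp only [pow_mul]
    rw [geom_zero (by rw [← pow_mul, mul_comm, pow_mul, hζ.inv.pow_eq_one, one_pow])
      (hζ.inv.pow_ne_one_of_pos_of_lt hj0 (mem_range.1 hj)), zero_smul]
  · intro h
    exact absurd (mem_range.2 (Nat.pos_of_ne_zero h0)) h

/-- The eigenspace of `ζ ^ i`. -/
abbrev esp (A : End k V) (ζ : k) {N : ℕ} (i : Fin N) : Submodule k V := A.eigenspace (ζ ^ (i : ℕ))

/-- The projection onto the eigenspace, as a map into it. -/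
noncomputable def prjE (hN : (N : k) ≠ 0) (hζ : IsPrimitiveRoot ζ N) (hA : A ^ N = 1) (i : Fin N) :
    V →ₗ[k] esp A ζ i :=
  (prj A N (ζ ^ (i : ℕ))).codRestrict _ fun v => End.mem_eigenspace_iff.2
    (prj_mem (fun e => hN (by simp [e])) hA (by rw [← pow_mul, mul_comm, pow_mul, hζ.pow_eq_one, one_pow]) v)

variable (hN : (N : k) ≠ 0) (hζ : IsPrimitiveRoot ζ N) (hA : A ^ N = 1)
include hN hζ

theorem prj_esp_self {i : Fin N} {v : V} (hv : v ∈ esp A ζ i) : prj A N (ζ ^ (i : ℕ)) v = v :=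
  prj_self hN (pow_ne_zero _ (hζ.ne_zero fun e => hN (by simp [e]))) (End.mem_eigenspace_iff.1 hv)

theorem prj_esp_ne {i j : Fin N} (h : i ≠ j) {v : V} (hv : v ∈ esp A ζ j) : prj A N (ζ ^ (i : ℕ)) v = 0 :=
  prj_ne (fun e => hN (by simp [e])) (by rw [← pow_mul, mul_comm, pow_mul, hζ.pow_eq_one, one_pow])
    (by rw [← pow_mul, mul_comm, pow_mul, hζ.pow_eq_one, one_pow])
    (fun e => h (Fin.ext (hζ.pow_inj i.2 j.2 e))) (End.mem_eigenspace_iff.1 hv)

theorem prjE_self (i : Fin N) (v : esp A ζ i) : prjE hN hζ hA i v = v := Subtype.ext (prj_esp_self hN hζ v.2)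

theorem prjE_ne {i j : Fin N} (h : i ≠ j) (v : esp A ζ j) : prjE hN hζ hA i v = 0 :=
  Subtype.ext (prj_esp_ne hN hζ h v.2)

theorem sum_prjE (v : V) : ∑ i, (prjE hN hζ hA i v : V) = v := by
  have := congrArg (· v) (sum_prj (A := A) hN hζ)
  simpa [prjE] using this

variable [FiniteDimensional k V]
include hA

theorem sum_finrank : ∑ i : Fin N, finrank k (esp A ζ i) = finrank k V := by
  rw [← Module.finrank_pi_fintype]
  refine (LinearEquiv.ofLinearMap (LinearMap.pi (prjE hN hζ hA))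
    (∑ i, (esp A ζ i).subtype ∘ₗ LinearMap.proj i) ?_ ?_).symm.finrank_eq
  · refine LinearMap.ext fun w => funext fun i => ?_
    simp only [LinearMap.comp_apply, LinearMap.pi_apply, LinearMap.sum_apply, map_sum, LinearMap.id_apply,
      Finset.sum_apply]
    rw [Finset.sum_eq_single i]
    · exact prjE_self hN hζ hA i _
    · exact fun j _ h => prjE_ne hN hζ hA h.symm _
    · simp
  · ext v
    simpa using sum_prjE hN hζ hA v

theorem sum_sq_le : ∑ i : Fin N, finrank k (esp A ζ i) ^ 2 ≤ finrank k (cmt A) := by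
  let Φ : ((i : Fin N) → End k (esp A ζ i)) →ₗ[k] End k V :=
    { toFun := fun φ => ∑ i, (esp A ζ i).subtype ∘ₗ φ i ∘ₗ prjE hN hζ hA i
      map_add' := fun φ ψ => by simp [add_comp, comp_add, sum_add_distrib]
      map_smul' := fun c φ => by simp [smul_comp, comp_smul, smul_sum] }
  have h1 : ∀ φ i (v : esp A ζ i), Φ φ v = φ i v := fun φ i v => by
    simp only [Φ, LinearMap.coe_mk, AddHom.coe_mk, LinearMap.sum_apply, LinearMap.comp_apply]
    rw [Finset.sum_eq_single i, prjE_self]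
    · rfl
    · intro j _ h
      rw [prjE_ne hN hζ hA h, map_zero, map_zero]
    · simp
  have h2 : ∀ φ, Φ φ ∈ cmt A := fun φ => by
    refine mem_cmt.2 (LinearMap.ext fun v => ?_)
    rw [← sum_prjE hN hζ hA v, map_sum, map_sum]
    refine sum_congr rfl fun i _ => ?_
    rw [End.mul_apply, End.mul_apply, h1, End.mem_eigenspace_iff.1 (Subtype.prop _),
      End.mem_eigenspace_iff.1 (Subtype.prop _), map_smul, h1]
  have h3 : Function.Injective (Φ.codRestrict _ h2) := by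
    rw [injective_iff_map_eq_zero]
    intro φ h
    ext i v
    have := h1 φ i v
    rw [show Φ φ = 0 from congrArg Subtype.val h] at this
    simpa using this.symm
  have := LinearMap.finrank_le_finrank_of_injective h3
  rw [Module.finrank_pi_fintype] at this
  simpa [Module.finrank_linearMap, sq] using this

theorem trace_prj (i : Fin N) : trace k V (prj A N (ζ ^ (i : ℕ))) = finrank k (esp A ζ i) :=
  IsProj.trace ⟨fun v => (prjE hN hζ hA i v).2, fun _ hv => prj_esp_self hN hζ hv⟩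

theorem pow_eq_zero_of_esp {D : End k V} (h : A * D = D * A) (hD : IsNilpotent D) {t : ℕ}
    (ht : ∀ i : Fin N, finrank k (esp A ζ i) ≤ t) : D ^ t = 0 := by
  ext v
  rw [← sum_prjE hN hζ hA v, map_sum, LinearMap.zero_apply]
  refine sum_eq_zero fun i _ => ?_
  have h1 : ∀ w ∈ esp A ζ i, D w ∈ esp A ζ i := fun w hw => End.mem_eigenspace_iff.2 (by
    rw [← End.mul_apply, h, End.mul_apply, End.mem_eigenspace_iff.1 hw, map_smul])
  have h2 : IsNilpotent (D.restrict h1) := End.isNilpotent.restrict h1 hD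
  have h3 : (D.restrict h1) ^ t = 0 := pow_eq_zero_of_le (ht i) (by
    simpa [h2.charpoly_eq_X_pow_finrank] using (D.restrict h1).aeval_self_charpoly)
  have := congrArg (fun f => ((f (prjE hN hζ hA i v) : esp A ζ i) : V)) h3
  rw [End.pow_restrict] at this
  exact this

end Cfsg.Lib.Tur
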