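import Cfsg.Agent.Lib.Tur.Fix

/-!
# Turull's theorem: the inductive step inside a faithful module
-/

set_option autoImplicit false

namespace Cfsg.Lib.Tur

open Module Subgroup Cfsg.Lib.BG Cfsg.Lib.HH Finset
open scoped Cfsg.Lib.Transfer

variable {k W Γ : Type*} [Field k] [AddCommGroup W] [Module k W] [Group Γ] {ρ : Γ →* End k W}

theorem norm_nml (Z : Subgroup Γ) [Z.Normal] (X : Subgroup Γ) : X ≤ 𝐍(Z) := le_normalizer_of_normal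

theorem mem_norm_nml (Z : Subgroup Γ) [Z.Normal] (g : Γ) : g ∈ 𝐍(Z) := norm_nml Z ⊤ trivial

theorem normal_of_top {Z : Subgroup Γ} (h : ⊤ ≤ 𝐍(Z)) : Z.Normal := normalizer_eq_top_iff.1 (top_le_iff.1 h)

theorem conj_fixer_wt (Z : Subgroup Γ) [Z.Normal] (μ : Γ → k) (g : Γ) :
    g ⋆ fixer ρ (wt ρ Z μ) = fixer ρ (wt ρ Z fun z => μ (g⁻¹ * z * g)) := by
  ext x
  rw [Transfer.mem_conj]
  refine ⟨fun h u hu => ?_, fun h u hu => ?_⟩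
  · have h1 := h (ρ g⁻¹ u) (by simpa [mul_assoc] using rho_mem_wt (mem_norm_nml Z g⁻¹) hu)
    rw [rho_mul, rho_mul, rho_self_inv] at h1
    rw [← rho_self_inv (ρ := ρ) g (ρ x u), h1, rho_self_inv]
  · rw [rho_mul, rho_mul, h _ (rho_mem_wt (mem_norm_nml Z g) hu), rho_inv_self]

theorem conj_fx (v : W) (g : Γ) : g ⋆ fx ρ v = fx ρ (ρ g v) := by
  ext x
  rw [Transfer.mem_conj, mem_fx, mem_fx, rho_mul, rho_mul]
  exact ⟨fun h => by rw [← rho_self_inv (ρ := ρ) g (ρ x _), h], fun h => by rw [h, rho_inv_self]⟩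

theorem mem_fixer_of_fix {Z : Subgroup Γ} {μ : Γ → k} {u : W} (hu : u ∈ wt ρ Z μ) (h0 : u ≠ 0) {z : Γ} (hz : z ∈ Z)
    (h : ρ z u = u) : z ∈ fixer ρ (wt ρ Z μ) := fun v hv => by
  rw [mem_wt.1 hu z hz] at h
  rw [mem_wt.1 hv z hz, smul_left_injective k h0 (h.trans (one_smul k u).symm), one_smul]

theorem sum_eq_zero_of_wt {T Z : Subgroup Γ} [Fintype T] {μ : Γ → k} (h : ¬ T ⊓ Z ≤ fixer ρ (wt ρ Z μ)) {u : W}
    (hu : u ∈ wt ρ Z μ) : ∑ t : T, ρ t u = 0 := by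
  obtain ⟨z, hz, h1⟩ := SetLike.not_le_iff_exists.1 h
  have h2 : μ z ≠ 1 := fun e => h1 fun v hv => by rw [mem_wt.1 hv z hz.2, e, one_smul]
  have h3 : ∑ t : T, ρ t u = μ z • ∑ t : T, ρ t u := by
    rw [smul_sum]
    exact (Fintype.sum_equiv (Equiv.mulRight (⟨z, hz.1⟩ : T)) _ _ fun t => by
      rw [Equiv.coe_mulRight, Subgroup.coe_mul, rho_mul, mem_wt.1 hu z hz.2, map_smul]).symm
  rw [← sub_eq_zero, ← one_smul k (∑ t : T, ρ t u), smul_smul, mul_one, ← sub_smul, smul_eq_zero] at h3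
  exact h3.resolve_left (sub_ne_zero.2 h2.symm)

theorem rho_sum_comm {T : Subgroup Γ} [Fintype T] {d : Γ} (hd : d ∈ 𝐍(T)) (w : W) :
    ρ d (∑ t : T, ρ t w) = ∑ t : T, ρ t (ρ d w) := by
  rw [map_sum]
  exact Fintype.sum_equiv (cj hd).toEquiv _ _ fun t => by
    rw [← rho_mul, ← rho_mul, MulEquiv.toEquiv_eq_coe, EquivLike.coe_coe, cj_apply, inv_mul_cancel_right]

theorem fix_nm {Y : Subgroup Γ} {a : Γ} (ha : a ∈ 𝐍(Y)) {v : W} (hv : v ∈ fix ρ Y) (r : ℕ) : nm ρ a r v ∈ fix ρ Y := by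
  rw [nm_apply]
  exact Submodule.sum_mem _ fun i _ => inv_fix (zpowers_le.2 ha) _ (pow_mem (mem_zpowers a) i) v hv

variable [Finite Γ] {p r : ℕ} [hp : Fact p.Prime] {E : Subgroup Γ} [E.Normal] {a : Γ}
  (hpk : (p : k) ≠ 0) (hr : r.Prime) (hrk : (r : k) ≠ 0) (ha : a ^ r = 1) (hrp : r ≠ p)
  (hE : IsPGroup p E) (hEE : ⁅E, E⁆ ≤ 𝐂(E)) {Ω : Set W} (hΩ : Submodule.span k Ω = ⊤)
  (hΩ' : ∀ g, ∀ v ∈ Ω, ρ g v ∈ Ω)
include hr ha hrp hE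

theorem comm_comm_self {Y : Subgroup Γ} [Y.Normal] (hY : Y ≤ E) :
    ⁅Y, zpowers a⁆ ≤ ⁅⁅Y, zpowers a⁆, zpowers a⁆ :=
  (coprime_commGid (norm_nml Y _) (cop_zpowers ha (cop_pgroup hr (pgroup_of_le hE hY) hrp))).ge

include hEE in
theorem comm_inf_le_cent : ⁅E, zpowers a⁆ ⊓ 𝐂[a] ≤ 𝐂(⁅E, zpowers a⁆) := by
  have := comm_inf_cent_le (norm_nml E _) (cop_zpowers ha (cop_pgroup hr hE hrp)) (norm_nml ⁅E, E⁆ _)
    (norm_nml ⁅E, E⁆ _) le_rfl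
  rw [cent_zpowers] at this
  exact this.trans (hEE.trans (cent_anti (comm_le_left (norm_nml E _))))

include hpk hrk hEE hΩ hΩ'

/-- An element of `C(a)` fixing the norms of the non-fixed vectors of the orbit fixes the norms of all the vectors
moved by `[E, a]`. -/
theorem fix_nm_of_cov {d : Γ} (had : d ∈ 𝐂[a])
    (hd : d ∈ E ∨ ∃ m, d ^ m = 1 ∧ m.Coprime r ∧ m.Coprime (Nat.card E))
    (cov : ∀ v ∈ Ω, ρ a v = v ∨ ρ d (nm ρ a r v) = nm ρ a r v) {μ : Γ → k}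
    (h : ¬ ⁅E, zpowers a⁆ ⊓ 𝐙(E) ≤ fixer ρ (wt ρ 𝐙(E) μ)) {u : W} (hu : u ∈ wt ρ 𝐙(E) μ) :
    ρ d (nm ρ a r u) = nm ρ a r u := by
  have := Fintype.ofFinite ↥⁅E, zpowers a⁆
  have hTE : ⁅E, zpowers a⁆ ≤ E := comm_le_left (norm_nml E _)
  have haT : a ∈ 𝐍(⁅E, zpowers a⁆) := zpowers_le.1 (right_norm_comm _ _)
  have hdT : d ∈ 𝐍(⁅E, zpowers a⁆) := mem_norm_comm (mem_norm_nml E d) (norm_zpowers (mem_cent1.1 had))
  have hc := cop_pgroup hr (pgroup_of_le hE hTE) hrp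
  have hΔ : ρ d * ρ a = ρ a * ρ d := by rw [← map_mul, ← map_mul, mem_cent1.1 had]
  refine fix_of_span ha haT (card_ne_of_pgroup hpk (pgroup_of_le hE hTE)) hΩ (rho_sum_comm hdT) (fun v hv => ?_)
    (sum_eq_zero_of_wt h hu)
  refine (cov v hv).symm.elim .inl fun hav => ?_
  rw [nm_fix hav, map_smul]
  refine Or.imp_left (congrArg _) ?_
  rcases hd with hd | ⟨m, hm, hmr, hmE⟩
  · have : (𝐙(E)).Normal := normal_of_top (norm_center (norm_nml E _))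
    have h1 : ⁅𝐙(E), zpowers a⁆ ≤ 𝐙(E) := comm_le_left (norm_nml _ _)
    have h2 : a ∈ 𝐍(⁅𝐙(E), zpowers a⁆) := zpowers_le.1 (right_norm_comm _ _)
    rcases key_comm hr ha h2 (cop_pgroup hr (pgroup_of_le hE (h1.trans inf_le_left)) hrp)
      (cent_mono (abelian_cent (abelian_center E)) (inf_le_left.trans h1) h1) hav hrk
      (fun t _ => cov _ (hΩ' t v hv)) (comm_comm_self hr ha hrp hE inf_le_left) hΔ (fun t ht => by
        rw [← rho_mul, ← rho_mul, mem_cent.1 (inv_mem (h1 ht)).2 d hd]) with h3 | h3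
    · exact .inl h3
    have h4 : ∀ X : Subgroup Γ, X ≤ E → X ≤ 𝐍(⁅𝐙(E), zpowers a⁆) := fun X hX =>
      norm_of_cent (cent_mono (cent_symm inf_le_right) hX h1)
    have h5 : ⁅⁅E, zpowers a⁆, zpowers d⁆ ≤ ⁅𝐙(E), zpowers a⁆ := by
      refine three_mod (h4 _ le_rfl) (zpowers_le.2 h2) (h4 _ (zpowers_le.2 hd)) ?_ (commutator_mono ?_ le_rfl)
      · rw [(comm_eq_bot_iff' (A := zpowers a)).2 (cent_zpowers a ▸ zpowers_le.2 had), commutator_bot_left]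
        exact bot_le
      · exact (commutator_mono (zpowers_le.2 hd) le_rfl).trans (le_inf (der_le E) hEE)
    refine key_comm hr ha haT hc (comm_inf_le_cent hr ha hrp hE hEE) hav hrk (fun t _ => cov _ (hΩ' t v hv))
      (comm_comm_self hr ha hrp hE le_rfl) hΔ fun t ht => ?_
    have h6 := fix_nm h2 (inv_fix (h4 _ hTE) t ht v fun z hz => h3 hz) r _
      (h5 (comm_mem_comm ht (inv_mem (mem_zpowers d))))
    conv_lhs => rw [← h6]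
    rw [← rho_mul, ← rho_mul, ← rho_mul]
    congr 2
    group
  · exact key_cop hr ha haT hc (comm_inf_le_cent hr ha hrp hE hEE) hav hrk (comm_comm_self hr ha hrp hE le_rfl) hdT
      (mem_cent1.1 had).symm hm hmr (hmE.coprime_dvd_right (card_dvd hTE)) fun t _ => cov _ (hΩ' t v hv)

/-- A weight moved by `a`. -/
theorem mem_fixer_of_moved {d : Γ} (had : d ∈ 𝐂[a])
    (hd : d ∈ E ∨ ∃ m, d ^ m = 1 ∧ m.Coprime r ∧ m.Coprime (Nat.card E))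
    (cov : ∀ v ∈ Ω, ρ a v = v ∨ ρ d (nm ρ a r v) = nm ρ a r v) {μ : Γ → k} (h : a ∉ stab 𝐙(E) μ) :
    d ∈ fixer ρ (wt ρ 𝐙(E) μ) := fun u hu => by
  have : (𝐙(E)).Normal := normal_of_top (norm_center (norm_nml E _))
  by_cases h0 : wt ρ 𝐙(E) μ = ⊥
  · rw [h0, Submodule.mem_bot] at hu
    rw [hu, map_zero]
  obtain ⟨m, hm, hmr⟩ : ∃ m, d ^ m = 1 ∧ m.Coprime r := hd.elim (fun hd => ⟨Nat.card E,
    congrArg Subtype.val (pow_card_eq_one' (x := (⟨d, hd⟩ : E))), (cop_pgroup hr hE hrp).symm⟩)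
    fun ⟨m, hm, hmr, _⟩ => ⟨m, hm, hmr⟩
  exact blk_move hr ha (blk_wt _ μ) (mem_norm_nml _ a) h (mem_norm_nml _ d) (mem_cent1.1 had).symm hm hmr hu
    (fix_nm_of_cov hpk hr hrk ha hrp hE hEE hΩ hΩ' had hd cov (fun e => h (zpowers_le.1 (le_stab_of_comm_le h0
      (norm_nml _ _) ((le_inf (commutator_mono inf_le_left le_rfl) (comm_le_left (norm_nml _ _))).trans e)))) hu)

variable [FiniteDimensional k W] [IsAlgClosed k] {q : ℕ} (hq : q.Prime) (hqp : q ≠ p) (hqr : q ≠ r)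
  {P D B : Subgroup Γ} (hP : IsPGroup q P) (haP : a ∈ 𝐍(P)) (hEP : E ≤ ⁅E, P⁆) (hD : D ≤ E ⊓ 𝐂[a])
  (hB : B ≤ P ⊓ 𝐂[a])
  (hx : E ⊓ 𝐂[a] ≤ D ∨ ∃ B' ≤ 𝐂[a], B' ≤ 𝐍(B) ∧ B ≤ ⁅B, B'⁆ ∧ ⁅E ⊓ 𝐂[a], B'⁆ ≤ D)
  (cov : ∀ v ∈ Ω, ρ a v = v ∨ ∀ d, d ∈ D ∨ d ∈ B → ρ d (nm ρ a r v) = nm ρ a r v)
include hq hqp hqr hP hD hB

omit hpk hrk ha hrp hEE hΩ hΩ' [E.Normal] [FiniteDimensional k W] [IsAlgClosed k] in
theorem db_cases {d : Γ} (h : d ∈ D ∨ d ∈ B) :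
    d ∈ 𝐂[a] ∧ (d ∈ E ∨ ∃ m, d ^ m = 1 ∧ m.Coprime r ∧ m.Coprime (Nat.card E)) := by
  rcases h with h | h
  · exact ⟨(hD h).2, .inl (hD h).1⟩
  · obtain ⟨n, hn⟩ := hP ⟨d, (hB h).1⟩
    exact ⟨(hB h).2, .inr ⟨q ^ n, congrArg Subtype.val hn, ((Nat.coprime_primes hq hr).2 hqr).pow_left n,
      (cop_pgroup hq hE hqp).pow_left n⟩⟩

include haP hEP hx cov

/-- A weight fixed by `a`. -/
theorem dich_of_stab (hPZ : P ≤ 𝐂(𝐙(E))) {μ : Γ → k} (h : a ∈ stab 𝐙(E) μ)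
    (h1 : ¬ ⁅E, E⁆ ≤ fixer ρ (wt ρ 𝐙(E) μ)) (h2 : ¬ ⁅⁅E, zpowers a⁆, E⁆ ≤ fixer ρ (wt ρ 𝐙(E) μ)) :
    ⁅D, E⁆ ≤ fixer ρ (wt ρ 𝐙(E) μ) ∧ ⁅⁅E, B⁆, E⁆ ≤ fixer ρ (wt ρ 𝐙(E) μ) := by
  have : (𝐙(E)).Normal := normal_of_top (norm_center (norm_nml E _))
  have hU := ne_bot_of_not_le_fixer h1
  have : Nontrivial (wt ρ 𝐙(E) μ) := Submodule.nontrivial_iff_ne_bot.2 hU
  have h0 : ∀ d, d ∈ D ∨ d ∈ B → ∀ w ∈ wt ρ 𝐙(E) μ, ρ a w = w → ρ d w = w := fun d hd w hw e => by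
    obtain ⟨e1, e2⟩ := db_cases hr hE hq hqp hqr hP hD hB hd
    have := fix_nm_of_cov hpk hr hrk ha hrp hE hEE hΩ hΩ' e1 e2 (fun v hv => (cov v hv).imp_right fun e => e d hd)
      (fun e => h2 ((le_inf (comm_le_left (left_norm_comm _ _)) ((commutator_mono (comm_le_left (norm_nml E _))
        le_rfl).trans (le_inf (der_le E) hEE))).trans e)) hw
    rw [nm_fix e, map_smul] at this
    exact smul_right_injective _ hrk this
  set K := fixer ρ (wt ρ 𝐙(E) μ) with hK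
  set H := stab 𝐙(E) μ with hH
  set σ := sub ρ (blk_wt (ρ := ρ) 𝐙(E) μ).inv with hσ
  set f := QuotientGroup.mk' σ.ker with hf
  set τ := QuotientGroup.lift σ.ker σ le_rfl with hτ
  have hτi : Function.Injective τ := lift_ker_injective σ
  have hτf : ∀ (x : H) (u : wt ρ 𝐙(E) μ), (τ (f x) u : W) = ρ x u := fun x u => rfl
  have hker : f.ker = K.subgroupOf H := by
    rw [hf, QuotientGroup.ker_mk']
    exact Subgroup.ext fun x => ⟨fun e u hu => congrArg (fun F : End k (wt ρ 𝐙(E) μ) => (F ⟨u, hu⟩ : W)) e,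
      fun e => LinearMap.ext fun u => Subtype.ext (e u u.2)⟩
  have hEH : E ≤ H := (cent_symm inf_le_right).trans (cent_le_stab _ μ)
  have hPH : P ≤ H := hPZ.trans (cent_le_stab _ μ)
  have hAH : zpowers a ≤ H := zpowers_le.2 h
  have bc : ∀ X Y : Subgroup Γ, X ≤ H → Y ≤ H →
      (⁅X, Y⁆.subgroupOf H).map f = ⁅(X.subgroupOf H).map f, (Y.subgroupOf H).map f⁆ := fun X Y hX hY => by
    rw [subOf_comm hX hY, map_commutator]
  have bz : ∀ X Y : Subgroup Γ, X ≤ H → Y ≤ H →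
      ((X.subgroupOf H).map f ≤ 𝐂((Y.subgroupOf H).map f) ↔ ⁅X, Y⁆ ≤ K) := fun X Y hX hY => by
    rw [map_le_cent_iff, hker, ← subOf_comm hX hY, subOf_le_iff (comm_le_of_le hX hY)]
  have bm : ∀ X Y : Subgroup Γ, X ≤ Y → (X.subgroupOf H).map f ≤ (Y.subgroupOf H).map f := fun X Y e =>
    map_mono (comap_mono e)
  have bn : ∀ X Y : Subgroup Γ, X ≤ 𝐍(Y) → (X.subgroupOf H).map f ≤ 𝐍((Y.subgroupOf H).map f) := fun X Y e =>
    map_norm f (subOf_le_norm e H)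
  have bp : ∀ (l : ℕ) (X : Subgroup Γ), IsPGroup l X → IsPGroup l ((X.subgroupOf H).map f) := fun l X e =>
    (e.comap_subtype).map f
  have ba : ((zpowers a).subgroupOf H).map f = zpowers (f ⟨a, h⟩) := by
    rw [← MonoidHom.map_zpowers]
    congr 1
    exact map_injective H.subtype_injective (by rw [subOf_map hAH, MonoidHom.map_zpowers]; rfl)
  have bca : ∀ X : Subgroup Γ, X ≤ 𝐂[a] → (X.subgroupOf H).map f ≤ 𝐂[f ⟨a, h⟩] := fun X e => by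
    rw [← cent_zpowers, ← ba]
    exact map_cent f (subOf_le_cent (cent_zpowers a ▸ e) H)
  have bna : ∀ X : Subgroup Γ, a ∈ 𝐍(X) → f ⟨a, h⟩ ∈ 𝐍((X.subgroupOf H).map f) := fun X e =>
    zpowers_le.1 (ba ▸ bn _ _ (zpowers_le.2 e))
  have hS : Scal τ ((𝐙(E).subgroupOf H).map f) ⊤ := by
    rintro _ ⟨z, hz, rfl⟩
    exact ⟨μ z, fun u _ => Subtype.ext (mem_wt.1 u.2 z hz)⟩
  have ha' : f ⟨a, h⟩ ^ r = 1 := by rw [← map_pow, show (⟨a, h⟩ : H) ^ r = 1 from Subtype.ext ha, map_one]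
  have hEZ : ⁅(E.subgroupOf H).map f, (E.subgroupOf H).map f⁆ ≤ (𝐙(E).subgroupOf H).map f :=
    bc E E hEH hEH ▸ bm _ _ (le_inf (der_le E) hEE)
  have hTH : ⁅E, zpowers a⁆ ≤ H := comm_le_of_le hEH hAH
  obtain ⟨w₀, hw, hw'⟩ := exists_fixed hτi hS hpk hr hrk ha' hrp hq hqp hqr (bp p E hE) (bm _ _ inf_le_left) hEZ
    (bna E (mem_norm_nml E a)) (bp q P hP) (bn _ _ (norm_nml E _)) (bna P haP) (bc E P hEH hPH ▸ bm _ _ hEP)
    (by rwa [← ba, ← bc _ _ hEH hAH, bz _ _ hTH hEH])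
  have hw0 : (w₀ : W) ≠ 0 := fun e => hw (Subtype.ext e)
  have hw1 : ρ a w₀ = w₀ := congrArg Subtype.val hw'
  have h3 : D ⊓ 𝐙(E) ≤ K := fun z hz => mem_fixer_of_fix w₀.2 hw0 hz.2 (h0 z (.inl hz.1) _ w₀.2 hw1)
  have h4 : ⁅𝐙(E), zpowers a⁆ ≤ K := (commutator_mono le_rfl hAH).trans (comm_stab_le_fixer _ μ)
  have hcZ := cop_zpowers ha (cop_pgroup hr (pgroup_of_le hE (inf_le_left : 𝐙(E) ≤ E)) hrp)
  have h5 : ∀ X : Subgroup Γ, (∀ d ∈ X, d ∈ D ∨ d ∈ B) → ∀ d ∈ (X.subgroupOf H).map f, ∀ w, τ (f ⟨a, h⟩) w = w →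
      τ d w = w := by
    rintro X hX _ ⟨d, hd, rfl⟩ w e
    exact Subtype.ext (h0 d (hX d hd) w w.2 (congrArg Subtype.val e))
  refine ⟨(bz _ _ (hD.trans (inf_le_left.trans hEH)) hEH).1 fun x hx => mem_cent_of_fix hτi hS hr ha' hrp (bp p E hE)
    hEZ (bna E (mem_norm_nml E a)) hw hw' ⟨bm _ _ (hD.trans inf_le_left) hx, bca _ (hD.trans inf_le_right) hx⟩
    (h5 D (fun _ => .inl) x hx), ?_⟩
  rcases hx with hx | ⟨B', e1, e2, e3, e4⟩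
  · refine absurd ((le_inf (der_le E) hEE).trans ((coprime_cent_prod (norm_nml _ _) hcZ
      (.inl (sol_zpowers a))).ge.trans (sup_le h4 (le_trans ?_ h3)))) h1
    rw [cent_zpowers]
    exact le_inf ((inf_le_inf_right _ inf_le_left).trans hx) inf_le_left
  have h6 : B' ≤ H := le_stab_of_comm_le hU (norm_nml _ _) (comm_le_iff.2 fun z hz b hb => by
    obtain ⟨c, hc', n, hn, rfl⟩ := Coprime.exists_centralizer_mul_commutator (norm_nml 𝐙(E) _) hcZ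
      (.inl (sol_zpowers a)) hz
    rw [cent_zpowers] at hc'
    have e5 : b ∈ 𝐍(⁅𝐙(E), zpowers a⁆) := mem_norm_comm (mem_norm_nml _ b) (norm_zpowers (mem_cent1.1 (e1 hb)))
    have e6 := mem_cent.1 (comm_le_left (norm_nml 𝐙(E) _) hn).2 c hc'.1.1
    rw [e6, show n * c * b * (n * c)⁻¹ * b⁻¹ = n * (c * b * c⁻¹ * b⁻¹) * (b * n⁻¹ * b⁻¹) by group]
    exact mul_mem (mul_mem (h4 hn) (h3 ⟨e4 (comm_mem_comm ⟨hc'.1.1, hc'.2⟩ hb),
      comm_le_left (norm_nml 𝐙(E) _) (comm_mem_comm hc'.1 hb)⟩)) (h4 (conj_mem_of_norm e5 (inv_mem hn))))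
  have hBH : B ≤ H := hB.trans (inf_le_left.trans hPH)
  rw [← bz _ _ (comm_le_of_le hEH hBH) hEH, bc _ _ hEH hBH]
  exact comm_le_cent_of_fix hτi hS hpk hr hrk ha' hrp hq hqp hqr (bp p E hE) (bm _ _ inf_le_left) hEZ
    (bna E (mem_norm_nml E a)) hw hw' (bp q B (pgroup_of_le hP (hB.trans inf_le_left))) (bn _ _ (norm_nml E _))
    (bca _ (hB.trans inf_le_right)) (h5 B fun _ => .inr) (bn _ _ (norm_nml E _)) (bn _ _ e2) (bca _ e1)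
    (bc _ _ hBH h6 ▸ bm _ _ e3)

omit hpk hr hrk ha hrp hEE hΩ hΩ' hq hqp hqr hP haP hD hB hx cov [FiniteDimensional k W] [IsAlgClosed k] in
theorem der_le_cent (hE0 : E ≠ ⊥) (hmin : ∀ H : Subgroup Γ, H.Normal → H < E → P ≤ 𝐂(H)) : ⁅E, E⁆ ≤ 𝐂(E) := by
  have h1 : ⁅E, E⁆ < E := lt_of_le_of_ne (der_le E) fun e =>
    hE0 (le_bot_iff.1 ((le_nilRes le_rfl e.ge).trans (nilRes_eq_bot_iff.2 (pgroup_nil hE)).le))
  have h2 := hmin _ inferInstance h1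
  refine cent_symm (hEP.trans (comm_eq_bot_iff.1 (le_bot_iff.1 (three_mod (norm_nml _ _) (norm_nml _ _)
    (norm_nml _ _) ?_ ?_))))
  · rw [comm_eq_bot_iff.2 h2, commutator_bot_left]
  · exact (comm_eq_bot_iff'.2 (h2.trans (cent_anti (comm_le_left (norm_nml _ _))))).le

omit hEE in
/-- The inductive step. -/
theorem step (hρ : Function.Injective ρ) (hE0 : E ≠ ⊥) (hmin : ∀ H : Subgroup Γ, H.Normal → H < E → P ≤ 𝐂(H)) :
    ∃ M : Subgroup Γ, ¬ E ≤ M ∧ ∀ g, ⁅E, zpowers a⁆ ≤ g ⋆ M ∨ (D ≤ g ⋆ M ∧ ⁅E, B⁆ ≤ g ⋆ M) := by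
  have hEE := der_le_cent hE hEP hE0 hmin
  have hZn : (𝐙(E)).Normal := normal_of_top (norm_center (norm_nml E _))
  have hro := roots_of_card (card_ne_of_pgroup hpk (pgroup_of_le hE (inf_le_left : 𝐙(E) ≤ E)))
  have h1 : ∀ μ : Γ → k, E ≤ 𝐍(fixer ρ (wt ρ 𝐙(E) μ)) := fun μ =>
    ((blk_wt _ μ).inv.mono ((cent_symm inf_le_right).trans (cent_le_stab _ μ))).norm_fixer
  have h2 : ∀ μ : Γ → k, a ∉ stab 𝐙(E) μ → D ≤ fixer ρ (wt ρ 𝐙(E) μ) ∧ ⁅E, B⁆ ≤ fixer ρ (wt ρ 𝐙(E) μ) := fun μ h =>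
    have h3 : ∀ d, d ∈ D ∨ d ∈ B → d ∈ fixer ρ (wt ρ 𝐙(E) μ) := fun d hd =>
      have e := db_cases hr hE hq hqp hqr hP hD hB hd
      mem_fixer_of_moved hpk hr hrk ha hrp hE hEE hΩ hΩ' e.1 e.2 (fun v hv => (cov v hv).imp_right fun e => e d hd) h
    ⟨fun d hd => h3 d (.inl hd), (commutator_mono le_rfl fun d hd => h3 d (.inr hd)).trans (comm_le_right (h1 μ))⟩
  by_cases hab : E ≤ 𝐂(E)
  · obtain ⟨μ, hμ⟩ := exists_wt (ρ := ρ) (abelian_center E) hro (Y := E) (by rwa [fixer_top_eq_bot hρ, le_bot_iff])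
    refine ⟨_, hμ, fun g => ?_⟩
    rw [conj_fixer_wt]
    by_cases h : a ∈ stab 𝐙(E) fun z => μ (g⁻¹ * z * g)
    · exact .inl ((commutator_mono (le_inf le_rfl hab) (zpowers_le.2 h)).trans (comm_stab_le_fixer _ _))
    · exact .inr (h2 _ h)
  obtain ⟨μ, hμ⟩ := exists_wt (ρ := ρ) (abelian_center E) hro (Y := ⁅E, E⁆)
    (by rwa [fixer_top_eq_bot hρ, le_bot_iff, comm_eq_bot_iff])
  have h3 : ∀ (g : Γ) (X : Subgroup Γ), X ≤ E → ⁅X, E⁆ ≤ g ⋆ fixer ρ (wt ρ 𝐙(E) μ) →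
      X ≤ g ⋆ ⨅ e : E, cst (fixer ρ (wt ρ 𝐙(E) μ)) e := fun g X hX h x hx => by
    rw [Transfer.mem_conj, mem_iInf]
    refine fun e => ⟨h1 μ (conj_mem_of_norm' (mem_norm_nml E g) (hX hx)), ?_⟩
    convert Transfer.mem_conj.1 (h (comm_mem_comm hx (conj_mem_of_norm (mem_norm_nml E g) e.2))) using 1
    group
  refine ⟨⨅ e : E, cst (fixer ρ (wt ρ 𝐙(E) μ)) e, fun h => hμ (comm_le_iff.2 fun x hx e he =>
    (mem_iInf.1 (h hx) ⟨e, he⟩).2), fun g => ?_⟩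
  have hTE : ⁅E, zpowers a⁆ ≤ E := comm_le_left (norm_nml E _)
  have hBE : ⁅E, B⁆ ≤ E := comm_le_left (norm_nml E _)
  refine Or.imp (h3 g _ hTE) (And.imp (h3 g _ (hD.trans inf_le_left)) (h3 g _ hBE)) ?_
  rw [conj_fixer_wt, or_iff_not_imp_left]
  intro h4
  by_cases h : a ∈ stab 𝐙(E) fun z => μ (g⁻¹ * z * g)
  · refine dich_of_stab hpk hr hrk ha hrp hE hEE hΩ hΩ' hq hqp hqr hP haP hEP hD hB hx cov
      (hmin _ hZn (lt_of_le_of_ne inf_le_left fun e => hab (e.ge.trans inf_le_right))) h (fun e => hμ fun x hx => ?_) h4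
    rw [← conj_fixer_wt] at e
    simpa [mul_assoc] using Transfer.mem_conj.1 (e (conj_mem_of_norm (mem_norm_nml _ g) hx))
  · exact (h2 _ h).imp (fun e => (commutator_mono e le_rfl).trans (comm_le_left (h1 _)))
      fun e => (commutator_mono e le_rfl).trans (comm_le_left (h1 _))

omit hEE hq hqp hqr hP haP hEP hD hB hx cov [FiniteDimensional k W] in
/-- The step at the top of the tower. -/
theorem step_zero (hρ : Function.Injective ρ) (hE0 : E ≠ ⊥) (hab : E ≤ 𝐂(E))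
    (cov : ∀ v ∈ Ω, ρ a v = v ∨ nm ρ a r v = 0) : ∃ M : Subgroup Γ, ¬ E ≤ M ∧ ∀ g, ⁅E, zpowers a⁆ ≤ g ⋆ M := by
  have := Fintype.ofFinite ↥⁅E, zpowers a⁆
  have hTE : ⁅E, zpowers a⁆ ≤ E := comm_le_left (norm_nml E _)
  have haT : a ∈ 𝐍(⁅E, zpowers a⁆) := zpowers_le.1 (right_norm_comm _ _)
  obtain ⟨μ, hμ⟩ := exists_wt (ρ := ρ) (abelian_iff.2 hab) (roots_of_card (card_ne_of_pgroup hpk hE)) (Y := E)
    (by rwa [fixer_top_eq_bot hρ, le_bot_iff])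
  refine ⟨_, hμ, fun g => ?_⟩
  rw [conj_fixer_wt]
  by_contra h
  refine wt_conj_ne_bot (mem_norm_nml E g) (ne_bot_of_not_le_fixer hμ) (eq_bot_iff.2 fun u hu => ?_)
  refine blk_zero hr ha (blk_wt _ _) (mem_norm_nml E a)
    (fun e => h ((commutator_mono le_rfl (zpowers_le.2 e)).trans (comm_stab_le_fixer _ _))) hu ?_
  refine (fix_of_span (Δ := 0) ha haT (card_ne_of_pgroup hpk (pgroup_of_le hE hTE)) hΩ (fun w => by simp)
    (fun v hv => ?_) (sum_eq_zero_of_wt (by rwa [inf_eq_left.2 hTE]) hu)).symm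
  refine (cov v hv).symm.elim (fun e => .inl e.symm) fun hav => ?_
  refine Or.imp_left (fun e : (0 : End k W) v = v => by rw [← e]; simp) ?_
  exact key_comm hr ha haT (cop_pgroup hr (pgroup_of_le hE hTE) hrp) (cent_mono hab (inf_le_left.trans hTE) hTE) hav hrk
    (fun t _ => (cov _ (hΩ' t v hv)).imp_right Eq.symm) (comm_comm_self hr ha hrp hE le_rfl) (by simp) fun t _ => by simp

end Cfsg.Lib.Tur
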