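import Cfsg.Agent.Lib.Tur.Mod
import Cfsg.Agent.Lib.HH.Height

/-!
# Turull's theorem: towers
-/

set_option autoImplicit false

namespace Cfsg.Lib.Tur

open Subgroup Cfsg.Lib.BG Cfsg.Lib.HH
open scoped Cfsg.Lib.Transfer

universe u

variable {G : Type u} [Group G]

/-- An `a`-invariant tower `P 0, ..., P n` of `X`. -/
structure Tw (X : Subgroup G) (a : G) (n : ℕ) (p : ℕ → ℕ) (P : ℕ → Subgroup G) : Prop where
  le : ∀ i, P i ≤ X
  pr : ∀ i, (p i).Prime
  pg : ∀ i, IsPGroup (p i) (P i)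
  na : ∀ i, a ∈ 𝐍(P i)
  nm : ∀ i j, i ≤ j → P i ≤ 𝐍(P j)
  ne : ∀ i < n, p i ≠ p (i + 1)
  top : ∀ i, n < i → P i = ⊥

/-- The iterated commutators of a tower. -/
def cm (P : ℕ → Subgroup G) : ℕ → Subgroup G
  | 0 => P 0
  | i + 1 => ⁅cm P i, P (i + 1)⁆

/-- `Y`, at level `i`, is killed by the next `m` levels. -/
def kill (P : ℕ → Subgroup G) : ℕ → ℕ → Subgroup G → Prop
  | 0, _, Y => Y = ⊥
  | m + 1, i, Y => kill P m (i + 1) ⁅Y, P (i + 1)⁆

theorem kill_cm (P : ℕ → Subgroup G) : ∀ m i, kill P m i (cm P i) ↔ cm P (i + m) = ⊥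
  | 0, _ => Iff.rfl
  | m + 1, i => (kill_cm P m (i + 1)).trans (by rw [add_right_comm, add_assoc])

theorem kill_congr {P P' : ℕ → Subgroup G} : ∀ m i Y, (∀ j, i < j → P' j = P j) → (kill P' m i Y ↔ kill P m i Y)
  | 0, _, _, _ => Iff.rfl
  | m + 1, i, Y, h => by
    rw [kill, kill, h _ i.lt_succ_self]
    exact kill_congr m _ _ fun j hj => h j (i.lt_succ_self.trans hj)

theorem cm_congr {P P' : ℕ → Subgroup G} : ∀ i, (∀ j ≤ i, P' j = P j) → cm P' i = cm P i
  | 0, h => h 0 le_rfl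
  | i + 1, h => by rw [cm, cm, h _ le_rfl, cm_congr i fun j hj => h j (hj.trans i.le_succ)]

variable {X : Subgroup G} {a : G} {n : ℕ} {p : ℕ → ℕ} {P : ℕ → Subgroup G}

namespace Tw

variable (T : Tw X a n p P)
include T

theorem cm_le : ∀ i, cm P i ≤ P i
  | 0 => le_rfl
  | i + 1 => comm_le_right ((cm_le i).trans (T.nm _ _ i.le_succ))

theorem na_cm : ∀ i, a ∈ 𝐍(cm P i)
  | 0 => T.na 0
  | i + 1 => mem_norm_comm (na_cm i) (T.na _)

theorem nm_cm : ∀ i, ∀ l ≤ i, P l ≤ 𝐍(cm P i)
  | 0, l, h => T.nm _ _ h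
  | i + 1, l, h => by
    rcases h.eq_or_lt with rfl | h
    · exact right_norm_comm _ _
    · exact norm_comm (nm_cm i l (Nat.lt_succ_iff.1 h)) (T.nm _ _ h.le)

variable [Finite G]

theorem cop {i : ℕ} (hi : i < n) {Y Z : Subgroup G} (hY : Y ≤ P i) (hZ : Z ≤ P (i + 1)) :
    (Nat.card Y).Coprime (Nat.card Z) :=
  have := Fact.mk (T.pr i)
  have := Fact.mk (T.pr (i + 1))
  coprime_mono (coprime_pgroups (T.pg i) (T.pg _) (T.ne i hi)) hY hZ

theorem cm_le_res {L : Subgroup G} (hL : ∀ i, P i ≤ L) : ∀ i ≤ n, cm P i ≤ res i L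
  | 0, _ => hL 0
  | i + 1, h => by
    have ih := cm_le_res hL i (i.le_succ.trans h)
    refine le_nilRes ((commutator_mono ih (hL _)).trans (comm_le_left (res_nml i L).norm)) ?_
    rw [cm, commutator_comm (cm P i)]
    exact (coprime_commGid ((T.cm_le i).trans (T.nm _ _ i.le_succ)) (T.cop h (T.cm_le i) le_rfl)).ge.trans
      (commutator_mono le_rfl ih)

omit [Finite G] in
theorem update {i : ℕ} {Q : Subgroup G} (hQ : Q ≤ P i) (haQ : a ∈ 𝐍(Q)) (h : ∀ l < i, P l ≤ 𝐍(Q)) :
    Tw X a n p (Function.update P i Q) where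
  le j := by
    rcases eq_or_ne j i with rfl | e
    exacts [by simpa using hQ.trans (T.le j), by simpa [e] using T.le j]
  pr := T.pr
  pg j := by
    rcases eq_or_ne j i with rfl | e
    · rw [Function.update_self]
      exact pgroup_of_le (T.pg j) hQ
    · rw [Function.update_of_ne e]
      exact T.pg j
  na j := by
    rcases eq_or_ne j i with rfl | e
    · rwa [Function.update_self]
    · rw [Function.update_of_ne e]
      exact T.na j
  nm j l hjl := by
    rcases eq_or_ne l i with rfl | e <;> rcases eq_or_ne j l with rfl | e'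
    · exact le_norm _
    · rw [Function.update_self, Function.update_of_ne e']
      exact h j (lt_of_le_of_ne hjl e')
    · exact le_norm _
    · rw [Function.update_of_ne e]
      rcases eq_or_ne j i with rfl | e''
      · rw [Function.update_self]
        exact hQ.trans (T.nm _ _ hjl)
      · rw [Function.update_of_ne e'']
        exact T.nm _ _ hjl
  ne := T.ne
  top j hj := by
    rcases eq_or_ne j i with rfl | e
    · rw [Function.update_self]
      exact eq_bot_mono (T.top j hj) hQ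
    · rw [Function.update_of_ne e]
      exact T.top j hj

end Tw

/-- A minimal tower. -/
structure MT (X : Subgroup G) (a : G) (n : ℕ) (p : ℕ → ℕ) (P : ℕ → Subgroup G) : Prop extends Tw X a n p P where
  nd : ∀ i m, i + m = n → ¬ kill P m i (P i)
  cme : ∀ i ≤ n, cm P i = P i
  min0 : ∀ Q < P 0, a ∈ 𝐍(Q) → kill P n 0 Q
  minS : ∀ i m, i + 1 + m = n → ∀ Q < P (i + 1), a ∈ 𝐍(Q) → (∀ l ≤ i, P l ≤ 𝐍(Q)) → kill P m (i + 1) ⁅P i, Q⁆

variable [Finite G]

theorem exists_mt (T : Tw X a n p P) (h : cm P n ≠ ⊥) : ∃ P', MT X a n p P' := by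
  classical
  obtain ⟨P, ⟨T, h⟩, hmin⟩ := (InvImage.wf (fun P : ℕ → Subgroup G => ∑ i ∈ Finset.range (n + 1), Nat.card (P i))
    Nat.lt_wfRel.wf).has_min {P | Tw X a n p P ∧ cm P n ≠ ⊥} ⟨P, T, h⟩
  replace hmin : ∀ P', Tw X a n p P' ∧ cm P' n ≠ ⊥ →
      ¬ ∑ i ∈ Finset.range (n + 1), Nat.card (P' i) < ∑ i ∈ Finset.range (n + 1), Nat.card (P i) := hmin
  have h1 : ∀ i m, i + m = n → ∀ Q < P i, a ∈ 𝐍(Q) → (∀ l < i, P l ≤ 𝐍(Q)) →
      kill P m i (cm (Function.update P i Q) i) := fun i m e Q hQ haQ hn => by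
    rw [← kill_congr m i _ fun j hj => Function.update_of_ne hj.ne' Q P, kill_cm, e]
    by_contra h0
    refine hmin _ ⟨T.update hQ.le haQ hn, h0⟩ (Finset.sum_lt_sum (fun j _ => ?_)
      ⟨i, Finset.mem_range.2 (Nat.lt_succ_of_le (e ▸ Nat.le_add_right i m)), ?_⟩)
    · rcases eq_or_ne j i with rfl | e
      · rw [Function.update_self]
        exact card_le_of_le hQ.le
      · rw [Function.update_of_ne e]
    · rw [Function.update_self]
      exact lt_of_le_of_ne (card_le_of_le hQ.le) fun e => hQ.ne (eq_of_le_of_card_le hQ.le e.ge)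
  have h2 : ∀ i (Q : Subgroup G), cm (Function.update P (i + 1) Q) (i + 1) = ⁅cm P i, Q⁆ := fun i Q => by
    rw [cm, Function.update_self, cm_congr i fun j hj => Function.update_of_ne (Nat.lt_succ_of_le hj).ne Q P]
  have h3 : ∀ i ≤ n, cm P i = P i := fun i hi => by
    rcases i with _ | i
    · rfl
    obtain ⟨m, rfl⟩ := Nat.exists_eq_add_of_le hi
    by_contra h0
    have := h1 _ m rfl _ (lt_of_le_of_ne (T.cm_le _) h0) (T.na_cm _) fun l hl => T.nm_cm _ l hl.le
    rw [h2, cm, commutator_comm, commutator_comm (cm P i), coprime_commGid ((T.cm_le i).trans (T.nm _ _ i.le_succ))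
      (T.cop hi (T.cm_le i) le_rfl), commutator_comm] at this
    exact h ((kill_cm P m (i + 1)).1 this)
  refine ⟨P, T, fun i m e h0 => h ?_, h3, fun Q hQ haQ => ?_, fun i m e Q hQ haQ hn => ?_⟩
  · rwa [← h3 i (by omega), kill_cm, e] at h0
  · simpa [cm] using h1 0 n (zero_add n) Q hQ haQ (by simp)
  · have := h1 _ m e Q hQ haQ fun l hl => hn l (Nat.lt_succ_iff.1 hl)
    rwa [h2, h3 i (by omega)] at this

variable {r : ℕ} (ha : a ^ r = 1)
include ha

theorem exists_lift {Γ : Type*} [Group Γ] [Finite Γ] (f : G →* Γ) (haX : a ∈ 𝐍(X)) (hc : r.Coprime (Nat.card X))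
    (hf : (X.map f).Normal) (q : ℕ) [Fact q.Prime] : ∃ V ≤ X, IsPGroup q V ∧ a ∈ 𝐍(V) ∧ V.map f = 𝐎({q}, X.map f) ∧
      X.map f ≤ 𝐎({q}, X.map f) ⊔ (X ⊓ 𝐍(V)).map f := by
  have : 𝐎({q}, X.map f).Normal := normal_of_top (norm_pcore (norm_nml _ _) _)
  have h1 : (X ⊓ 𝐎({q}, X.map f).comap f).map f = 𝐎({q}, X.map f) := by
    refine le_antisymm ((map_mono inf_le_right).trans (map_comap_le _ _)) fun y hy => ?_
    obtain ⟨x, hx, rfl⟩ := pcore_le _ _ hy
    exact ⟨x, ⟨hx, hy⟩, rfl⟩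
  obtain ⟨V, hV, h2⟩ := Syl.exists_inv q (A := zpowers a) (K := X ⊓ 𝐎({q}, X.map f).comap f)
    (norm_inf (zpowers_le.2 haX) (norm_nml _ _)) (cop_zpowers ha (hc.coprime_dvd_right (card_dvd inf_le_left)))
    (.inl (sol_zpowers a))
  refine ⟨V, hV.le.trans inf_le_left, hV.pgroup, zpowers_le.1 h2, ?_, ?_⟩
  · have := hV.map f
    rw [h1] at this
    exact this.eq_self (pcore_pi _ _)
  · conv_lhs => rw [← hV.frattini ⟨inf_le_left, norm_inf (le_norm X) (norm_nml _ _)⟩, Subgroup.map_sup, h1]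

theorem exists_tw : ∀ (n : ℕ) (X : Subgroup G) (Γ : Type u) [Group Γ] [Finite Γ] (f : G →* Γ), a ∈ 𝐍(X) →
    r.Coprime (Nat.card X) → Group.IsSolvable X → (X.map f).Normal → res n (X.map f) ≠ ⊥ →
    ∃ p P, Tw X a n p P ∧ ¬ cm P n ≤ f.ker ∧ ((P n).map f).Normal
  | 0, X, Γ, _, _, f, haX, hc, hs, hf, h => by
    obtain ⟨q, hq, h1⟩ : ∃ q : ℕ, q.Prime ∧ 𝐎({q}, X.map f) ≠ ⊥ := by
      by_contra! hl
      refine Fitting_ne_bot (sol_map f hs) h (le_bot_iff.1 (nil_le_of_pcore_le (Fitting_nil _) fun q hq _ => ?_))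
      have := Fact.mk hq
      rw [pcore_Fitting, hl q hq]
    have := Fact.mk hq
    obtain ⟨V, h2, h3, h4, h5, -⟩ := exists_lift ha f haX hc hf q
    refine ⟨fun _ => q, fun i => if i = 0 then V else ⊥, ⟨fun i => ?_, fun _ => hq, fun i => ?_, fun i => ?_,
      fun i j e => ?_, by simp, fun i hi => if_neg hi.ne'⟩, fun e => h1 (h5 ▸ (Subgroup.map_eq_bot_iff _).2 e), ?_⟩
    · split_ifs
      exacts [h2, bot_le]
    · rcases i with _ | i
      exacts [h3, .of_bot]
    · split_ifs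
      exacts [h4, mem_norm_nml _ _]
    · split_ifs with e1 e2 e2
      exacts [le_norm _, norm_nml _ _, bot_le, bot_le]
    · change (V.map f).Normal
      rw [h5]
      exact normal_of_top (norm_pcore (norm_nml _ _) _)
  | n + 1, X, Γ, _, _, f, haX, hc, hs, hf, h => by
    obtain ⟨q, Q, hq, h1, h2, h3⟩ : ∃ (q : ℕ) (Q : Subgroup Γ), q.Prime ∧ Q ≤ res n (X.map f) ∧ IsPGroup q Q ∧
        ¬ Q ≤ 𝐂(𝐎({q}ᶜ, 𝐅(X.map f))) := by
      by_contra! hl
      exact h ((res_succ_eq_bot_iff n).2 (le_Fitting_of_cent (res_nml n _) (sol_of_le (sol_map f hs) (res_le n _)) hl))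
    obtain ⟨l, hl, h4, h5⟩ : ∃ l : ℕ, l.Prime ∧ l ≠ q ∧ ¬ Q ≤ 𝐂(𝐎({l}, X.map f)) := by
      by_contra! hl
      refine h3 (cent_symm (nil_le_of_pcore_le (nil_of_le (Fitting_nil _) (pcore_le _ _)) fun l hl' e => ?_))
      have := Fact.mk hl'
      exact (((pcore_nml _ _).pcore_le _).trans (pcore_Fitting l _).le).trans
        (cent_symm (hl l hl' ((pcore_pi _ _).mem hl' e)))
    have := Fact.mk hq
    have := Fact.mk hl
    obtain ⟨V, h6, h7, h8, h9, h10⟩ := exists_lift ha f haX hc hf l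
    have n1 : 𝐎({l}, X.map f).Normal := normal_of_top (norm_pcore (norm_nml _ _) _)
    have : 𝐂(𝐎({l}, X.map f)).Normal := normal_of_top (norm_cent (norm_nml _ _))
    set π₁ := QuotientGroup.mk' 𝐂(𝐎({l}, X.map f)) with hπ₁
    have n2 : ((X.map f).map π₁).Normal := hf.map _ (QuotientGroup.mk'_surjective _)
    have : 𝐎({l}, (X.map f).map π₁).Normal := normal_of_top (norm_pcore (norm_nml _ _) _)
    set π₂ := QuotientGroup.mk' 𝐎({l}, (X.map f).map π₁) with hπ₂
    have k1 : π₁.ker = 𝐂(𝐎({l}, X.map f)) := QuotientGroup.ker_mk' _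
    have k2 : π₂.ker = 𝐎({l}, (X.map f).map π₁) := QuotientGroup.ker_mk' _
    have h11 : (X ⊓ 𝐍(V)).map (π₂.comp (π₁.comp f)) = ((X.map f).map π₁).map π₂ := by
      rw [← map_map, ← map_map]
      refine le_antisymm (map_mono (map_mono (map_mono inf_le_left))) ((map_mono (map_mono h10)).trans ?_)
      rw [Subgroup.map_sup, Subgroup.map_sup]
      exact sup_le (((Subgroup.map_eq_bot_iff _).2 ((map_pcore_le π₁ _ _).trans k2.ge)).le.trans bot_le) le_rfl
    obtain ⟨p, P, T, h12, h13⟩ := exists_tw n (X ⊓ 𝐍(V)) _ (π₂.comp (π₁.comp f)) (mem_norm_inf haX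
      (zpowers_le.1 (norm_norm (zpowers_le.2 h8)))) (hc.coprime_dvd_right (card_dvd inf_le_left))
      (sol_of_le hs inf_le_left) (h11 ▸ n2.map _ (QuotientGroup.mk'_surjective _)) (fun e => h5 (by
        rw [h11, ← map_res, ← map_res, Subgroup.map_eq_bot_iff, k2] at e
        rw [← k1, ← Subgroup.map_eq_bot_iff]
        exact eq_bot_mono (disjoint_of_coprime (coprime_pgroups (h2.map π₁) (pcore_pgroup l _) h4.symm))
          (le_inf le_rfl ((map_mono h1).trans e))))
    have h14 : p n ≠ l := fun e => h12 ((T.cm_le n).trans (by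
      rw [← Subgroup.map_eq_bot_iff, ← map_map, Subgroup.map_eq_bot_iff, k2]
      have e1 := h13.comap π₂
      rw [← map_map, comap_map_eq, k2] at e1
      refine le_trans le_sup_left (pcore_max_p (K := _ ⊔ 𝐎({l}, (X.map f).map π₁)) ?_
        ⟨sup_le ?_ (pcore_le _ _), norm_nml _ _⟩)
      · rw [sup_comm]
        exact pgroup_sup (pcore_pgroup l _) ((e ▸ T.pg n).map _) (norm_nml _ _)
      · rw [map_map]
        exact map_mono ((T.le n).trans inf_le_left)))
    refine ⟨Function.update p (n + 1) l, Function.update P (n + 1) V, ⟨fun i => ?_, fun i => ?_, fun i => ?_,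
      fun i => ?_, fun i j e => ?_, fun i hi => ?_, fun i hi => ?_⟩, fun e => h12 ?_, ?_⟩
    · rcases eq_or_ne i (n + 1) with rfl | e
      exacts [by simpa using h6, by simpa [e] using (T.le i).trans inf_le_left]
    · rcases eq_or_ne i (n + 1) with rfl | e
      exacts [by simpa using hl, by simpa [e] using T.pr i]
    · rcases eq_or_ne i (n + 1) with rfl | e
      · rwa [Function.update_self, Function.update_self]
      · rw [Function.update_of_ne e, Function.update_of_ne e]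
        exact T.pg i
    · rcases eq_or_ne i (n + 1) with rfl | e
      · rwa [Function.update_self]
      · rw [Function.update_of_ne e]
        exact T.na i
    · rcases eq_or_ne j (n + 1) with rfl | e' <;> rcases eq_or_ne i (n + 1) with rfl | e''
      · exact le_norm _
      · rw [Function.update_self, Function.update_of_ne e'']
        exact (T.le i).trans inf_le_right
      · rw [Function.update_of_ne e', T.top j (by omega)]
        exact norm_nml _ _
      · rw [Function.update_of_ne e', Function.update_of_ne e'']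
        exact T.nm i j e
    · rw [Function.update_of_ne hi.ne]
      rcases eq_or_ne i n with rfl | e
      · rwa [Function.update_self]
      · rw [Function.update_of_ne (by omega)]
        exact T.ne i (by omega)
    · rw [Function.update_of_ne hi.ne']
      exact T.top i (by omega)
    · rw [cm, Function.update_self, cm_congr n fun j hj => Function.update_of_ne (Nat.lt_succ_of_le hj).ne V P,
        ← map_le_cent_iff, h9,
        ← k1, ← Subgroup.map_eq_bot_iff] at e
      rw [← Subgroup.map_eq_bot_iff, ← map_map, ← map_map, e, Subgroup.map_bot]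
    · rw [Function.update_self, h9]
      exact n1

end Cfsg.Lib.Tur
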